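import Mathlib
import Cfsg.Prelude.Def_ChevStructure
import Cfsg.Agent.Lib.Helper5.ChevPerfDef

set_option autoImplicit false

/-!
The table check behind the conjugation of `X_a(u)` by `n̄_a(t)` for a fundamental root `a`: roots
`γ, δ ≠ ±a` with `[x_δ, x_γ] = x_a(± t u) ⋯`, such that the remaining factors and the factors of the
commutator of the reflected roots all belong to negative roots.
-/

namespace Cfsg.Agent.Lib.Helper5.ChevSym

open Cfsg Cfsg.Lie

/-- the roots of the terms are in range, distinct from `±a`, and reflected to negative roots -/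
def restOK (D : ChevalleyDatum) (i a na : ℕ) (l : List (ℕ × ℤ × ℕ × ℕ)) : Bool :=
  l.all fun c => Nat.blt c.1 D.nroots && !(Nat.beq c.1 a) && !(Nat.beq c.1 na) &&
    !(decide (D.IsPosRoot (D.reflectRoot i c.1)))

/-- the roots of the terms are negative -/
def allNeg (D : ChevalleyDatum) (l : List (ℕ × ℤ × ℕ × ℕ)) : Bool :=
  l.all fun c => Nat.blt c.1 D.nroots && !(decide (D.IsPosRoot c.1))

/-- split a list of terms at the first term of the root `a` -/
def findTerm (a : ℕ) : List (ℕ × ℤ × ℕ × ℕ) →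
    Option (List (ℕ × ℤ × ℕ × ℕ) × (ℕ × ℤ × ℕ × ℕ) × List (ℕ × ℤ × ℕ × ℕ))
  | [] => none
  | c :: l => bif Nat.beq c.1 a then some ([], c, l)
      else (findTerm a l).map fun p => (c :: p.1, p.2.1, p.2.2)

theorem findTerm_spec (a : ℕ) (l pre post : List (ℕ × ℤ × ℕ × ℕ)) (c : ℕ × ℤ × ℕ × ℕ)
    (h : findTerm a l = some (pre, c, post)) : l = pre ++ c :: post ∧ c.1 = a := by
  induction l generalizing pre with
  | nil => simp [findTerm] at h
  | cons c' l ih =>
    unfold findTerm at h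
    cases hb : Nat.beq c'.1 a with
    | true =>
      rw [hb, cond_true] at h
      simp only [Option.some.injEq, Prod.mk.injEq] at h
      obtain ⟨rfl, rfl, rfl⟩ := h
      exact ⟨rfl, Nat.eq_of_beq_eq_true hb⟩
    | false =>
      rw [hb, cond_false] at h
      cases hf : findTerm a l with
      | none => rw [hf] at h; simp at h
      | some p =>
        rw [hf] at h
        simp only [Option.map_some, Option.some.injEq, Prod.mk.injEq] at h
        obtain ⟨rfl, rfl, rfl⟩ := h
        obtain ⟨e1, e2⟩ := ih p.1 hf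
        exact ⟨by rw [e1]; rfl, e2⟩

/-- the check for the `i`-th fundamental root and the pair `(γ, δ)` -/
def checkM3 (D : ChevalleyDatum) (i γ δ : ℕ) : Bool :=
  canon (fun a => canon (fun na =>
    Nat.blt γ D.nroots && Nat.blt δ D.nroots && !(Nat.beq δ γ) && !(Nat.beq δ (D.neg γ)) &&
    !(Nat.beq γ a) && !(Nat.beq γ na) && !(Nat.beq δ a) && !(Nat.beq δ na) &&
    (match findTerm a (D.commTerms γ δ) with
      | some (pre, c, post) => Nat.beq c.2.1.natAbs 1 && Nat.beq c.2.2.1 1 &&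
          restOK D i a na pre && restOK D i a na post
      | none => false) &&
    allNeg D (D.commTerms (D.reflectRoot i γ) (D.reflectRoot i δ))) (D.neg a)) (D.simple i)

theorem ne_of_beq_false {a b : ℕ} (h : Nat.beq a b = false) : a ≠ b := by
  intro e
  rw [e] at h
  have : Nat.beq b b = true := by rw [Nat.beq_eq]
  rw [this] at h
  exact Bool.noConfusion h

theorem restOK_spec (D : ChevalleyDatum) (i : ℕ) (l : List (ℕ × ℤ × ℕ × ℕ))
    (h : restOK D i (D.simple i) (D.neg (D.simple i)) l = true) :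
    ∀ c ∈ l, c.1 < D.nroots ∧ c.1 ≠ D.simple i ∧ c.1 ≠ D.neg (D.simple i) ∧
      ¬ D.IsPosRoot (D.reflectRoot i c.1) := by
  intro c' hc'
  unfold restOK at h
  rw [List.all_eq_true] at h
  have := h c' hc'
  simp only [Bool.and_eq_true, Bool.not_eq_true', Nat.blt_eq, decide_eq_false_iff_not] at this
  obtain ⟨⟨⟨g1, g2⟩, g3⟩, g4⟩ := this
  exact ⟨g1, ne_of_beq_false g2, ne_of_beq_false g3, g4⟩

theorem checkM3_spec (D : ChevalleyDatum) (i γ δ : ℕ) (h : checkM3 D i γ δ = true) :
    γ < D.nroots ∧ δ < D.nroots ∧ δ ≠ γ ∧ δ ≠ D.neg γ ∧ γ ≠ D.simple i ∧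
      γ ≠ D.neg (D.simple i) ∧ δ ≠ D.simple i ∧ δ ≠ D.neg (D.simple i) ∧
      (∃ (C : ℤ) (q : ℕ) (pre post : List (ℕ × ℤ × ℕ × ℕ)), (C = 1 ∨ C = -1) ∧
        D.commTerms γ δ = pre ++ (D.simple i, C, 1, q) :: post ∧
        ∀ c, (c ∈ pre ∨ c ∈ post) → c.1 < D.nroots ∧ c.1 ≠ D.simple i ∧
          c.1 ≠ D.neg (D.simple i) ∧ ¬ D.IsPosRoot (D.reflectRoot i c.1)) ∧
      ∀ c ∈ D.commTerms (D.reflectRoot i γ) (D.reflectRoot i δ),
        c.1 < D.nroots ∧ ¬ D.IsPosRoot c.1 := by
  unfold checkM3 at h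
  rw [canon_eq, canon_eq] at h
  simp only [Bool.and_eq_true, Bool.not_eq_true', Nat.blt_eq] at h
  obtain ⟨⟨⟨⟨⟨⟨⟨⟨⟨h1, h2⟩, h3⟩, h4⟩, h5⟩, h6⟩, h7⟩, h8⟩, h9⟩, h10⟩ := h
  refine ⟨h1, h2, ne_of_beq_false h3, ne_of_beq_false h4, ne_of_beq_false h5, ne_of_beq_false h6,
    ne_of_beq_false h7, ne_of_beq_false h8, ?_, ?_⟩
  · split at h9
    · rename_i pre c post hc
      simp only [Bool.and_eq_true] at h9
      obtain ⟨⟨⟨e2, e3⟩, e5⟩, e6⟩ := h9
      have e2 := Nat.eq_of_beq_eq_true e2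
      have e3 := Nat.eq_of_beq_eq_true e3
      obtain ⟨hl, e1⟩ := findTerm_spec _ _ _ _ _ hc
      refine ⟨c.2.1, c.2.2.2, pre, post, ?_, ?_, ?_⟩
      · rcases Int.natAbs_eq c.2.1 with e | e
        · left; rw [e, e2]; rfl
        · right; rw [e, e2]; rfl
      · rw [hl]
        obtain ⟨c1, c2, c3, c4⟩ := c
        simp only at e1 e3
        rw [e1, e3]
      · rintro c' (hc' | hc')
        · exact restOK_spec D i pre e5 c' hc'
        · exact restOK_spec D i post e6 c' hc'
    · exact Bool.noConfusion h9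
  · intro c hc
    unfold allNeg at h10
    rw [List.all_eq_true] at h10
    have := h10 c hc
    simp only [Bool.and_eq_true, Bool.not_eq_true', Nat.blt_eq, decide_eq_false_iff_not] at this
    exact this

/-- the check for all fundamental roots, with a table of pairs -/
def checkM3All (D : ChevalleyDatum) (tab : List (ℕ × ℕ)) : Bool :=
  (List.range D.rank).all fun i => checkM3 D i (nthPair tab i).1 (nthPair tab i).2

theorem checkM3All_spec (D : ChevalleyDatum) (tab : List (ℕ × ℕ)) (h : checkM3All D tab = true)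
    (i : ℕ) (hi : i < D.rank) : ∃ γ δ : ℕ, checkM3 D i γ δ = true := by
  unfold checkM3All at h
  rw [List.all_eq_true] at h
  exact ⟨_, _, h i (List.mem_range.2 hi)⟩

end Cfsg.Agent.Lib.Helper5.ChevSym
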