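import Mathlib
import Cfsg.Agent.Lib.Helper5.ChevRankOne
import Cfsg.Agent.Lib.Helper5.ChevTorusAct
import Cfsg.Agent.Lib.Helper5.ChevNConj

set_option autoImplicit false

/-!
Facts about the Chevalley group needed for Steinberg's presentation: the conjugation of `x_s(u)` by
`n_a(t)` with its constant, and `n_{-a}(-t) = n_a(t⁻¹)`.
-/

namespace Cfsg.Agent.Lib.Helper5.StPres

open Cfsg Cfsg.Lie Cfsg.Agent.Lib.Helper5.ChevSym Cfsg.Agent.Lib.Helper5.ChevStruct
  Cfsg.Agent.Lib.Helper5.RankOneHom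

variable {K : Type*} [Field K]

/-- the constant of `n_a(t) x_s(u) n_a(t)⁻¹ = x_{w_a s}(c u)` -/
def cst (D : ChevalleyDatum) (i : ℕ) (t : K) (s : ℕ) : K :=
  (eta D i s : K) * t ^ (D.cartan i (D.reflectRoot i s))

theorem eta_cast_ne_zero (D : ChevalleyDatum) (hD : D ∈ Seven) (i : ℕ) (hi : i < D.rank) (s : ℕ)
    (hs : s < D.nroots) : ((eta D i s : ℤ) : K) ≠ 0 := by
  rcases eta_sq D hD i hi s hs with h | h <;> rw [h] <;> simp

theorem cst_ne_zero (D : ChevalleyDatum) (hD : D ∈ Seven) (i : ℕ) (hi : i < D.rank) (t : K)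
    (ht : t ≠ 0) (s : ℕ) (hs : s < D.nroots) : cst D i t s ≠ 0 :=
  mul_ne_zero (eta_cast_ne_zero D hD i hi s hs) (zpow_ne_zero _ ht)

/-- `n_a(t) x_s(u) n_a(-t) = x_{w_a s}(c u)` -/
theorem nt_conj (D : ChevalleyDatum) (hD : D ∈ Seven) (i : ℕ) (hi : i < D.rank) (t : K)
    (ht : t ≠ 0) (s : ℕ) (hs : s < D.nroots) (u : K) :
    D.nMat K (D.simple i) t * D.x K s u * D.nMat K (D.simple i) (-t)
      = D.x K (D.reflectRoot i s) (cst D i t s * u) := by
  have h1 : D.nMat K (D.simple i) t = D.hMat K (D.simple i) t * D.nMat K (D.simple i) 1 :=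
    nMat_eq_hMat_mul D hD _ t
  calc D.nMat K (D.simple i) t * D.x K s u * D.nMat K (D.simple i) (-t)
      = D.hMat K (D.simple i) t * (D.nMat K (D.simple i) 1 * D.x K s u)
          * D.nMat K (D.simple i) (-t) := by rw [h1]; simp only [mul_assoc]
    _ = (D.hMat K (D.simple i) t * D.x K (D.reflectRoot i s) ((eta D i s : K) * u))
          * D.nMat K (D.simple i) 1 * D.nMat K (D.simple i) (-t) := by
        rw [nMat_simple_conj_x D hD i s hi hs u]; simp only [mul_assoc]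
    _ = D.x K (D.reflectRoot i s) (t ^ (D.cartan i (D.reflectRoot i s)) * ((eta D i s : K) * u))
          * (D.hMat K (D.simple i) t * D.nMat K (D.simple i) 1) * D.nMat K (D.simple i) (-t) := by
        rw [hMat_simple_x D hD i _ hi t ht]; simp only [mul_assoc]
    _ = D.x K (D.reflectRoot i s) (cst D i t s * u) := by
        rw [← h1, mul_assoc, nMat_mul_neg D hD, mul_one]
        congr 1
        unfold cst
        ring

theorem cst_opp (D : ChevalleyDatum) (hD : D ∈ Seven) (i : ℕ) (hi : i < D.rank) (t : K)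
    (s : ℕ) (hs : s < D.nroots) : cst D i t⁻¹ (D.neg s) = cst D i t s := by
  unfold cst
  rw [eta_neg D hD i hi s hs, reflectRoot_neg D hD i hi s hs]
  have h := (weightsOK_all D hD).neg (D.reflectRoot i s) (reflectRoot_invol D hD i hi s hs).1 i hi
  have h' : D.cartan i (D.neg (D.reflectRoot i s)) = - D.cartan i (D.reflectRoot i s) := h
  rw [h', inv_zpow, zpow_neg, inv_inv]

theorem sl2_braid (t : K) (ht : t ≠ 0) :
    ll (-t) * uu t⁻¹ * ll (-t) = uu t⁻¹ * ll (-t) * uu t⁻¹ := by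
  apply Subtype.ext
  have h : t⁻¹ * t = 1 := inv_mul_cancel₀ ht
  have h' : t * t⁻¹ = 1 := mul_inv_cancel₀ ht
  show (!![1, 0; -t, 1] * !![1, t⁻¹; 0, 1] * !![1, 0; -t, 1] : Matrix (Fin 2) (Fin 2) K)
    = !![1, t⁻¹; 0, 1] * !![1, 0; -t, 1] * !![1, t⁻¹; 0, 1]
  rw [Matrix.mul_fin_two, Matrix.mul_fin_two, Matrix.mul_fin_two, Matrix.mul_fin_two]
  congr 1
  simp only [mul_one, one_mul, mul_zero, add_zero, zero_add, mul_neg, neg_mul, h, h']
  simp

/-- `n_{-a}(-t) = n_a(t⁻¹)` -/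
theorem nMat_neg_root (D : ChevalleyDatum) (hD : D ∈ Seven) (a : ℕ) (ha : a < D.nroots) (t : K)
    (ht : t ≠ 0) : D.nMat K (D.neg a) (-t) = D.nMat K a t⁻¹ := by
  obtain ⟨-, φ, h1, h2⟩ := exists_sl2_hom (F := K) D hD a ha
  have hnn := (neg_lt D hD a ha).2.2
  rw [nMat_eq, nMat_eq, hnn]
  have e1 : -(-t)⁻¹ = t⁻¹ := by rw [inv_neg, neg_neg]
  have e2 : -(t⁻¹)⁻¹ = -t := by rw [inv_inv]
  rw [e1, e2, ← xGL_val D hD (D.neg a), ← xGL_val D hD a, ← h1, ← h2, ← Units.val_mul,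
    ← Units.val_mul, ← Units.val_mul, ← Units.val_mul, ← map_mul, ← map_mul, ← map_mul, ← map_mul,
    sl2_braid t ht]

end Cfsg.Agent.Lib.Helper5.StPres
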