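import Mathlib
import Cfsg.Prelude.Def_ChevStructure
import Cfsg.Agent.Lib.Helper5.ChevSymCore

set_option autoImplicit false

/-!
The table check behind the opposite generators `x_r(t) ↦ x_{-r}(-t)`: the terms of the commutator
formula of the pair `(-r, -s)` are those of `(r, s)` with the roots negated and the integers
multiplied by `(-1)^(i+j+1)`.
-/

namespace Cfsg.Agent.Lib.Helper5.ChevSym

open Cfsg Cfsg.Lie

/-- the expected term of the pair `(-r, -s)` -/
def oppTerm (D : ChevalleyDatum) (c : ℕ × ℤ × ℕ × ℕ) : ℕ × ℤ × ℕ × ℕ :=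
  (D.neg c.1, (bif Nat.beq (Nat.mod (Nat.add c.2.2.1 c.2.2.2) 2) 0 then Int.neg c.2.1 else c.2.1),
    c.2.2.1, c.2.2.2)

/-- equality of two terms -/
def termBeq (a b : ℕ × ℤ × ℕ × ℕ) : Bool :=
  Nat.beq a.1 b.1 && decide (a.2.1 = b.2.1) && Nat.beq a.2.2.1 b.2.2.1 && Nat.beq a.2.2.2 b.2.2.2

theorem termBeq_spec (a b : ℕ × ℤ × ℕ × ℕ) (h : termBeq a b = true) : a = b := by
  unfold termBeq at h
  simp only [Bool.and_eq_true, decide_eq_true_eq] at h
  obtain ⟨⟨⟨h1, h2⟩, h3⟩, h4⟩ := h
  obtain ⟨a1, a2, a3, a4⟩ := a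
  obtain ⟨b1, b2, b3, b4⟩ := b
  simp only at h1 h2 h3 h4
  rw [Nat.eq_of_beq_eq_true h1, h2, Nat.eq_of_beq_eq_true h3, Nat.eq_of_beq_eq_true h4]

/-- equality of two lists of terms, the second one mapped and with roots in range -/
def termsBeq (D : ChevalleyDatum) : List (ℕ × ℤ × ℕ × ℕ) → List (ℕ × ℤ × ℕ × ℕ) → Bool
  | [], [] => true
  | a :: l, b :: l' => termBeq a (oppTerm D b) && Nat.blt b.1 D.nroots && termsBeq D l l'
  | _, _ => false

theorem termsBeq_spec (D : ChevalleyDatum) (l l' : List (ℕ × ℤ × ℕ × ℕ))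
    (h : termsBeq D l l' = true) : l = l'.map (oppTerm D) ∧ ∀ c ∈ l', c.1 < D.nroots := by
  induction l generalizing l' with
  | nil =>
    cases l' with
    | nil => exact ⟨rfl, fun c hc => absurd hc List.not_mem_nil⟩
    | cons b l' => exact Bool.noConfusion h
  | cons a l ih =>
    cases l' with
    | nil => exact Bool.noConfusion h
    | cons b l' =>
      unfold termsBeq at h
      rw [Bool.and_eq_true, Bool.and_eq_true, Nat.blt_eq] at h
      obtain ⟨e1, e2⟩ := ih l' h.2
      refine ⟨by rw [List.map_cons, termBeq_spec _ _ h.1.1, e1], ?_⟩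
      intro c hc
      rw [List.mem_cons] at hc
      rcases hc with rfl | hc
      · exact h.1.2
      · exact e2 c hc

/-- the check at the root `r` -/
def checkOppAt (D : ChevalleyDatum) (r : ℕ) : Bool :=
  canon (fun r => canon (fun nr =>
    (List.range D.nroots).all fun s => canon (fun s =>
      Nat.beq s r || Nat.beq s nr ||
        termsBeq D (D.commTerms nr (D.neg s)) (D.commTerms r s)) s) (D.neg r)) r

theorem checkOppAt_spec (D : ChevalleyDatum) (r : ℕ) (h : checkOppAt D r = true) (s : ℕ)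
    (hs : s < D.nroots) (hsr : s ≠ r) (hsn : s ≠ D.neg r) :
    D.commTerms (D.neg r) (D.neg s) = (D.commTerms r s).map (oppTerm D) ∧
      ∀ c ∈ D.commTerms r s, c.1 < D.nroots := by
  unfold checkOppAt at h
  rw [canon_eq, canon_eq, List.all_eq_true] at h
  have h1 := h s (List.mem_range.2 hs)
  rw [canon_eq] at h1
  simp only [Bool.or_eq_true] at h1
  rcases h1 with (h1 | h1) | h1
  · exact absurd (Nat.eq_of_beq_eq_true h1) hsr
  · exact absurd (Nat.eq_of_beq_eq_true h1) hsn
  · exact termsBeq_spec D _ _ h1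

end Cfsg.Agent.Lib.Helper5.ChevSym
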