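import Mathlib
import Cfsg.Prelude.Def_ChevStructure
import Cfsg.Prelude.Def_Steinberg
import Cfsg.Prelude.Def_SteinbergCover

set_option autoImplicit false

/-!
Groups with Steinberg generators `X r t` satisfying the additivity relations (R1) and the
commutator relations (R2); the two presented groups are instances.
-/

namespace Cfsg.Agent.Lib.Helper5.StPres

open Cfsg Cfsg.Lie

/-- a group with generators `X r t` satisfying (R1) and (R2) -/
structure RootGens (D : ChevalleyDatum) (K : Type*) [Field K] (Γ : Type*) [Group Γ] where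
  X : ℕ → K → Γ
  X_add : ∀ (r : ℕ) (t u : K), r < D.nroots → X r t * X r u = X r (t + u)
  X_comm : ∀ (r s : ℕ) (t u : K), r < D.nroots → s < D.nroots → s ≠ r → s ≠ D.neg r →
    (X s u)⁻¹ * (X r t)⁻¹ * X s u * X r t = ((D.commWord K r s t u).map fun p => X p.1 p.2).prod
  gen : Subgroup.closure {g : Γ | ∃ (r : ℕ) (t : K), r < D.nroots ∧ g = X r t} = ⊤

section general

variable {D : ChevalleyDatum} {K : Type*} [Field K] {Γ : Type*} [Group Γ] (R : RootGens D K Γ)

/-- the value of a word -/
def RootGens.word (w : List (ℕ × K)) : Γ := (w.map fun p => R.X p.1 p.2).prod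

theorem RootGens.word_nil : R.word [] = 1 := rfl

theorem RootGens.word_cons (p : ℕ × K) (w : List (ℕ × K)) :
    R.word (p :: w) = R.X p.1 p.2 * R.word w := by
  unfold RootGens.word
  rw [List.map_cons, List.prod_cons]

theorem RootGens.word_append (w w' : List (ℕ × K)) :
    R.word (w ++ w') = R.word w * R.word w' := by
  unfold RootGens.word
  rw [List.map_append, List.prod_append]

theorem RootGens.X_zero (r : ℕ) (hr : r < D.nroots) : R.X r 0 = 1 := by
  have := R.X_add r 0 0 hr
  rw [add_zero] at this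
  exact mul_eq_left.1 this |>.symm ▸ rfl

theorem RootGens.X_neg (r : ℕ) (hr : r < D.nroots) (t : K) : R.X r (-t) = (R.X r t)⁻¹ := by
  rw [eq_inv_iff_mul_eq_one, R.X_add r (-t) t hr, neg_add_cancel, R.X_zero r hr]

theorem RootGens.X_sub (r : ℕ) (hr : r < D.nroots) (t u : K) :
    R.X r (t - u) = R.X r t * (R.X r u)⁻¹ := by
  rw [sub_eq_add_neg, ← R.X_add r t (-u) hr, R.X_neg r hr]

theorem RootGens.X_commute (r : ℕ) (hr : r < D.nroots) (t u : K) :
    R.X r t * R.X r u = R.X r u * R.X r t := by
  rw [R.X_add r t u hr, R.X_add r u t hr, add_comm]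

/-- (R2) in the form `x_s(u) x_r(t) = x_r(t) x_s(u) ∏ …` -/
theorem RootGens.X_swap (r s : ℕ) (t u : K) (hr : r < D.nroots) (hs : s < D.nroots) (hsr : s ≠ r)
    (hsn : s ≠ D.neg r) :
    R.X s u * R.X r t = R.X r t * R.X s u * R.word (D.commWord K r s t u) := by
  have h := R.X_comm r s t u hr hs hsr hsn
  unfold RootGens.word
  rw [← h]
  group

/-- induction on the generators -/
theorem RootGens.induction {p : Γ → Prop} (h1 : p 1)
    (hmul : ∀ (r : ℕ) (t : K) (g : Γ), r < D.nroots → p g → p (R.X r t * g)) (g : Γ) : p g := by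
  have hg : g ∈ Subgroup.closure {g : Γ | ∃ (r : ℕ) (t : K), r < D.nroots ∧ g = R.X r t} := by
    rw [R.gen]; trivial
  induction hg using Subgroup.closure_induction_left with
  | one => exact h1
  | mul_left x hx y _ ih =>
    obtain ⟨r, t, hr, rfl⟩ := hx
    exact hmul r t y hr ih
  | inv_mul_cancel x hx y _ ih =>
    obtain ⟨r, t, hr, rfl⟩ := hx
    rw [← R.X_neg r hr]
    exact hmul r (-t) y hr ih

end general

/-! ### The presented groups -/

section presented

variable (D : ChevalleyDatum) (K : Type*) [Field K]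

theorem mk_stWord (rels : Set (FreeGroup (Fin D.nroots × K))) (w : List (ℕ × K)) :
    PresentedGroup.mk rels (D.stWord w)
      = (w.map fun p => PresentedGroup.mk rels (D.stX p.1 p.2)).prod := by
  unfold ChevalleyDatum.stWord
  rw [map_list_prod, List.map_map]
  rfl

theorem closure_mk_stX (rels : Set (FreeGroup (Fin D.nroots × K))) :
    Subgroup.closure {g : PresentedGroup rels | ∃ (r : ℕ) (t : K), r < D.nroots ∧
      g = PresentedGroup.mk rels (D.stX r t)} = ⊤ := by
  rw [eq_top_iff, ← PresentedGroup.closure_range_of rels, Subgroup.closure_le]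
  rintro g ⟨⟨r, t⟩, rfl⟩
  apply Subgroup.subset_closure
  refine ⟨r.1, t, r.2, ?_⟩
  unfold ChevalleyDatum.stX
  rw [dif_pos r.2]
  rfl

/-- the generators of the group presented by (R1), (R2) -/
def coverGens : RootGens D K (D.SteinbergCover K) where
  X := D.scGen K
  X_add := by
    intro r t u hr
    unfold ChevalleyDatum.scGen
    rw [← map_mul, ← mul_inv_eq_one, ← map_inv, ← map_mul]
    apply PresentedGroup.one_of_mem
    exact Or.inl ⟨r, t, u, hr, rfl⟩
  X_comm := by
    intro r s t u hr hs hsr hsn
    unfold ChevalleyDatum.scGen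
    rw [← mk_stWord, ← map_inv, ← map_inv, ← map_mul, ← map_mul, ← map_mul, ← mul_inv_eq_one,
      ← map_inv, ← map_mul]
    apply PresentedGroup.one_of_mem
    exact Or.inr ⟨r, s, t, u, hr, hs, hsr, hsn, rfl⟩
  gen := closure_mk_stX D K _

/-- the generators of the group presented by (R1), (R2), (R3) -/
def stGens : RootGens D K (D.SteinbergGroup K) where
  X := D.stGen K
  X_add := by
    intro r t u hr
    unfold ChevalleyDatum.stGen
    rw [← map_mul, ← mul_inv_eq_one, ← map_inv, ← map_mul]
    apply PresentedGroup.one_of_mem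
    exact Or.inl (Or.inl ⟨r, t, u, hr, rfl⟩)
  X_comm := by
    intro r s t u hr hs hsr hsn
    unfold ChevalleyDatum.stGen
    rw [← mk_stWord, ← map_inv, ← map_inv, ← map_mul, ← map_mul, ← map_mul, ← mul_inv_eq_one,
      ← map_inv, ← map_mul]
    apply PresentedGroup.one_of_mem
    exact Or.inl (Or.inr ⟨r, s, t, u, hr, hs, hsr, hsn, rfl⟩)
  gen := closure_mk_stX D K _

end presented

end Cfsg.Agent.Lib.Helper5.StPres
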