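import Mathlib
import Cfsg.Agent.Lib.Helper5.StPres.Basic

set_option autoImplicit false

/-!
Subgroups generated by the root elements of a set of roots, in a group with Steinberg generators.
-/

namespace Cfsg.Agent.Lib.Helper5.StPres

open Cfsg Cfsg.Lie

variable {D : ChevalleyDatum} {K : Type*} [Field K] {Γ : Type*} [Group Γ] (R : RootGens D K Γ)

/-- the subgroup generated by the `X_s`, `s ∈ T` -/
def RootGens.setSub (T : Set ℕ) : Subgroup Γ :=
  Subgroup.closure {g : Γ | ∃ (s : ℕ) (t : K), s ∈ T ∧ g = R.X s t}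

theorem RootGens.X_mem_setSub (T : Set ℕ) (s : ℕ) (hs : s ∈ T) (t : K) : R.X s t ∈ R.setSub T :=
  Subgroup.subset_closure ⟨s, t, hs, rfl⟩

theorem RootGens.word_mem_setSub (T : Set ℕ) (w : List (ℕ × K)) (hw : ∀ q ∈ w, q.1 ∈ T) :
    R.word w ∈ R.setSub T := by
  unfold RootGens.word
  apply Subgroup.list_prod_mem
  intro g hg
  rw [List.mem_map] at hg
  obtain ⟨q, hq, rfl⟩ := hg
  exact R.X_mem_setSub T q.1 (hw q hq) q.2

theorem RootGens.setSub_mono {T T' : Set ℕ} (h : T ⊆ T') : R.setSub T ≤ R.setSub T' := by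
  unfold RootGens.setSub
  apply Subgroup.closure_mono
  rintro g ⟨s, t, hs, hg⟩
  exact ⟨s, t, h hs, hg⟩

/-- conjugating an element of `⟨X_s : s ∈ T⟩` by `x_r(t)` -/
theorem RootGens.conj_mem_setSub (T : Set ℕ) (r : ℕ) (hr : r < D.nroots)
    (hT : ∀ s ∈ T, s < D.nroots ∧ s ≠ r ∧ s ≠ D.neg r ∧ ∀ c ∈ D.commTerms r s, c.1 ∈ T)
    (t : K) (g : Γ) (hg : g ∈ R.setSub T) : R.X r t * g * (R.X r t)⁻¹ ∈ R.setSub T := by
  unfold RootGens.setSub at hg
  induction hg using Subgroup.closure_induction with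
  | mem y hy =>
    obtain ⟨s, u, hs, rfl⟩ := hy
    obtain ⟨hsn, hsr, hsneg, hc⟩ := hT s hs
    have hform := R.X_swap r s (-t) u hr hsn hsr hsneg
    have e : R.X r t * R.X s u * (R.X r t)⁻¹ = R.X s u * R.word (D.commWord K r s (-t) u) := by
      rw [R.X_neg r hr] at hform
      have : R.X s u * R.word (D.commWord K r s (-t) u)
          = R.X r t * (R.X s u * (R.X r t)⁻¹) := by
        rw [hform]; group
      rw [this]; group
    rw [e]
    apply mul_mem (R.X_mem_setSub T s hs u)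
    apply R.word_mem_setSub
    intro q hq
    unfold ChevalleyDatum.commWord at hq
    rw [List.mem_map] at hq
    obtain ⟨c, hc', rfl⟩ := hq
    exact hc c hc'
  | one =>
    simp only [mul_one, mul_inv_cancel]
    exact one_mem _
  | mul a b _ _ ha hb =>
    have e : R.X r t * (a * b) * (R.X r t)⁻¹
        = (R.X r t * a * (R.X r t)⁻¹) * (R.X r t * b * (R.X r t)⁻¹) := by group
    rw [e]
    exact mul_mem ha hb
  | inv a _ ha =>
    have e : R.X r t * a⁻¹ * (R.X r t)⁻¹ = (R.X r t * a * (R.X r t)⁻¹)⁻¹ := by group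
    rw [e]
    exact inv_mem ha

/-- the subgroup `X_r` -/
def RootGens.rootSub (r : ℕ) : Subgroup Γ := Subgroup.closure (Set.range fun t : K => R.X r t)

theorem RootGens.mem_rootSub (r : ℕ) (hr : r < D.nroots) (g : Γ) :
    g ∈ R.rootSub r ↔ ∃ t : K, g = R.X r t := by
  constructor
  · intro hg
    unfold RootGens.rootSub at hg
    induction hg using Subgroup.closure_induction with
    | mem y hy =>
      obtain ⟨t, rfl⟩ := hy
      exact ⟨t, rfl⟩
    | one => exact ⟨0, (R.X_zero r hr).symm⟩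
    | mul a b _ _ ha hb =>
      obtain ⟨t, rfl⟩ := ha
      obtain ⟨u, rfl⟩ := hb
      exact ⟨t + u, R.X_add r t u hr⟩
    | inv a _ ha =>
      obtain ⟨t, rfl⟩ := ha
      exact ⟨-t, (R.X_neg r hr t).symm⟩
  · rintro ⟨t, rfl⟩
    exact Subgroup.subset_closure ⟨t, rfl⟩

/-- `X_r ≤ N(⟨X_s : s ∈ T⟩)` -/
theorem RootGens.rootSub_le_normalizer_setSub (T : Set ℕ) (r : ℕ) (hr : r < D.nroots)
    (hT : ∀ s ∈ T, s < D.nroots ∧ s ≠ r ∧ s ≠ D.neg r ∧ ∀ c ∈ D.commTerms r s, c.1 ∈ T) :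
    R.rootSub r ≤ Subgroup.normalizer (R.setSub T : Set Γ) := by
  intro x hx
  obtain ⟨t, rfl⟩ := (R.mem_rootSub r hr x).1 hx
  rw [Subgroup.mem_normalizer_iff]
  intro g
  constructor
  · exact R.conj_mem_setSub T r hr hT t g
  · intro hg
    have := R.conj_mem_setSub T r hr hT (-t) _ hg
    rw [R.X_neg r hr] at this
    have e : (R.X r t)⁻¹ * (R.X r t * g * (R.X r t)⁻¹) * (R.X r t)⁻¹⁻¹ = g := by group
    rwa [e] at this

end Cfsg.Agent.Lib.Helper5.StPres
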