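import Mathlib
import Cfsg.Agent.Lib.Helper5.StPres.SetSub
import Cfsg.Agent.Lib.Helper5.ChevUOrd

set_option autoImplicit false

/-!
Every element of `Ū = ⟨X_r : r > 0⟩` is an ordered product of root elements.
-/

namespace Cfsg.Agent.Lib.Helper5.StPres

open Cfsg Cfsg.Lie Cfsg.Agent.Lib.Helper5.ChevSym Cfsg.Agent.Lib.Helper5.ChevStruct

variable {D : ChevalleyDatum} {K : Type*} [Field K] {Γ : Type*} [Group Γ] (R : RootGens D K Γ)

/-- `Ū_{≥ k}` -/
def RootGens.upper (k : ℕ) : Subgroup Γ := R.setSub {s | k ≤ s ∧ D.IsPosRoot s}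

/-- `Ū` -/
def RootGens.pos : Subgroup Γ := R.setSub {s | D.IsPosRoot s}

theorem RootGens.upper_zero : R.upper 0 = R.pos := by
  unfold RootGens.upper RootGens.pos
  congr 1
  ext s
  simp

theorem RootGens.upper_of_ge (k : ℕ) (hk : D.nroots ≤ k) : R.upper k = ⊥ := by
  unfold RootGens.upper RootGens.setSub
  rw [Subgroup.closure_eq_bot_iff]
  rintro g ⟨s, t, ⟨h1, h2⟩, rfl⟩
  have := h2.1
  omega

theorem RootGens.upper_of_not_pos (k : ℕ) (hk : ¬ D.IsPosRoot k) : R.upper k = R.upper (k + 1) := by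
  unfold RootGens.upper
  congr 1
  ext s
  constructor
  · rintro ⟨h1, h2⟩
    refine ⟨?_, h2⟩
    by_contra h
    have : s = k := by omega
    rw [this] at h2
    exact hk h2
  · rintro ⟨h1, h2⟩
    exact ⟨by omega, h2⟩

/-- `X_k` normalises `Ū_{>k}` -/
theorem RootGens.rootSub_le_normalizer_upper (hD : D ∈ Seven) (k : ℕ) (hk : D.IsPosRoot k) :
    R.rootSub k ≤ Subgroup.normalizer (R.upper (k + 1) : Set Γ) := by
  have hk' := (isPosRoot_iff D hD k).1 hk
  apply R.rootSub_le_normalizer_setSub _ k hk.1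
  rintro s ⟨hs1, hs2⟩
  obtain ⟨h1, h2⟩ := checkOrd_spec D k (chkOrd_all D hD k hk.1) hk'.1 hk'.2 s hs2.1 (by omega)
  refine ⟨hs2.1, by omega, h1, fun c hc => ?_⟩
  obtain ⟨h3, h4⟩ := h2 c hc
  exact ⟨by omega, (isPosRoot_iff D hD c.1).2 ⟨by omega, h4⟩⟩

/-- `Ū_{≥k} = X_k Ū_{>k}` -/
theorem RootGens.upper_decomp (hD : D ∈ Seven) (k : ℕ) (hk : D.IsPosRoot k) (g : Γ)
    (hg : g ∈ R.upper k) : ∃ t : K, ∃ u ∈ R.upper (k + 1), g = R.X k t * u := by
  have hle : R.upper k ≤ R.rootSub k ⊔ R.upper (k + 1) := by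
    unfold RootGens.upper RootGens.setSub
    rw [Subgroup.closure_le]
    rintro y ⟨s, t, ⟨hs1, hs2⟩, rfl⟩
    by_cases hsk : s = k
    · apply Subgroup.mem_sup_left
      rw [hsk]
      exact Subgroup.subset_closure ⟨t, rfl⟩
    · apply Subgroup.mem_sup_right
      exact Subgroup.subset_closure ⟨s, t, ⟨by omega, hs2⟩, rfl⟩
  have hg' : g ∈ ((R.rootSub k ⊔ R.upper (k + 1) : Subgroup Γ) : Set Γ) := hle hg
  rw [Subgroup.coe_mul_of_left_le_normalizer_right _ _
    (R.rootSub_le_normalizer_upper hD k hk)] at hg'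
  obtain ⟨x, hx, u, hu, rfl⟩ := Set.mem_mul.1 hg'
  obtain ⟨t, rfl⟩ := (R.mem_rootSub k hk.1 x).1 hx
  exact ⟨t, u, hu, rfl⟩

/-- existence of the ordered product decomposition -/
theorem RootGens.upper_exists (hD : D ∈ Seven) (m : ℕ) :
    ∀ k, D.nroots ≤ k + m → ∀ g : Γ, g ∈ R.upper k →
      ∃ t : ℕ → K, g = R.word ((posFrom D k).map fun r => (r, t r)) := by
  induction m with
  | zero =>
    intro k hk g hg
    rw [R.upper_of_ge k (by omega), Subgroup.mem_bot] at hg
    refine ⟨fun _ => 0, ?_⟩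
    rw [hg, posFrom_of_ge D k (by omega)]
    rfl
  | succ m ih =>
    intro k hk g hg
    by_cases hkn : D.nroots ≤ k
    · rw [R.upper_of_ge k hkn, Subgroup.mem_bot] at hg
      refine ⟨fun _ => 0, ?_⟩
      rw [hg, posFrom_of_ge D k hkn]
      rfl
    · rw [posFrom_succ D k (by omega)]
      by_cases hp : D.IsPosRoot k
      · rw [if_pos hp]
        obtain ⟨t0, u, hu, rfl⟩ := R.upper_decomp hD k hp g hg
        obtain ⟨t, ht⟩ := ih (k + 1) (by omega) u hu
        refine ⟨Function.update t k t0, ?_⟩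
        have e : (posFrom D (k + 1)).map (fun r => (r, Function.update t k t0 r))
            = (posFrom D (k + 1)).map (fun r => (r, t r)) := by
          apply List.map_congr_left
          intro r hr
          have := ((mem_posFrom D (k + 1) r).1 hr).1
          rw [Function.update_of_ne (by omega)]
        rw [List.map_cons, R.word_cons, e, ht, Function.update_self]
      · rw [if_neg hp]
        rw [R.upper_of_not_pos k hp] at hg
        exact ih (k + 1) (by omega) g hg

/-- every element of `Ū` is an ordered product -/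
theorem RootGens.pos_exists (hD : D ∈ Seven) (g : Γ) (hg : g ∈ R.pos) :
    ∃ t : ℕ → K, g = R.word (D.posRoots.map fun r => (r, t r)) := by
  rw [← R.upper_zero] at hg
  obtain ⟨t, ht⟩ := R.upper_exists hD D.nroots 0 (by omega) g hg
  rw [posFrom_zero] at ht
  exact ⟨t, ht⟩

end Cfsg.Agent.Lib.Helper5.StPres
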