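import Mathlib
import Cfsg.Agent.Lib.Helper5.StPres.Upper

set_option autoImplicit false

/-!
A group with Steinberg generators together with a homomorphism to the Chevalley group matching the
generators; the homomorphism is injective on `Ū`.
-/

namespace Cfsg.Agent.Lib.Helper5.StPres

open Cfsg Cfsg.Lie Cfsg.Agent.Lib.Helper5.ChevSym Cfsg.Agent.Lib.Helper5.ChevStruct

/-- Steinberg generators with a homomorphism to `GL` matching them with the `x_r(t)` -/
structure Model (D : ChevalleyDatum) (K : Type*) [Field K] (Γ : Type*) [Group Γ] where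
  R : RootGens D K Γ
  π : Γ →* GL D.Idx K
  π_X : ∀ (r : ℕ) (t : K), r < D.nroots →
    ((π (R.X r t) : GL D.Idx K) : Matrix D.Idx D.Idx K) = D.x K r t

variable {D : ChevalleyDatum} {K : Type*} [Field K] {Γ : Type*} [Group Γ] (M : Model D K Γ)

theorem Model.π_X' (hD : D ∈ Seven) (r : ℕ) (t : K) (hr : r < D.nroots) :
    M.π (M.R.X r t) = xGL D hD r t := by
  apply Units.ext
  rw [M.π_X r t hr, xGL_val]

theorem Model.π_word (hD : D ∈ Seven) (w : List (ℕ × K)) (hw : ∀ p ∈ w, p.1 < D.nroots) :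
    M.π (M.R.word w) = wordGL D hD w := by
  induction w with
  | nil =>
    rw [RootGens.word_nil, map_one]
    rfl
  | cons p w ih =>
    rw [RootGens.word_cons, map_mul, ih (fun q hq => hw q (List.mem_cons_of_mem _ hq)),
      M.π_X' hD p.1 p.2 (hw p List.mem_cons_self)]
    rfl

theorem Model.π_mem_setSub (hD : D ∈ Seven) (T : Set ℕ) (hT : ∀ s ∈ T, s < D.nroots) (g : Γ)
    (hg : g ∈ M.R.setSub T) : M.π g ∈ rootSetSub D K T := by
  unfold RootGens.setSub at hg
  induction hg using Subgroup.closure_induction with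
  | mem y hy =>
    obtain ⟨s, t, hs, rfl⟩ := hy
    rw [M.π_X' hD s t (hT s hs)]
    exact xGL_mem_rootSetSub D hD T s hs t
  | one => rw [map_one]; exact one_mem _
  | mul a b _ _ ha hb => rw [map_mul]; exact mul_mem ha hb
  | inv a _ ha => rw [map_inv]; exact inv_mem ha

/-- `π` is injective on `Ū` -/
theorem Model.inj_on_pos (hD : D ∈ Seven) (g g' : Γ) (hg : g ∈ M.R.pos) (hg' : g' ∈ M.R.pos)
    (h : M.π g = M.π g') : g = g' := by
  classical
  obtain ⟨t, rfl⟩ := M.R.pos_exists hD g hg
  obtain ⟨t', rfl⟩ := M.R.pos_exists hD g' hg'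
  have hmemP : ∀ r ∈ D.posRoots, D.IsPosRoot r := by
    intro r hr
    rw [← posFrom_zero, mem_posFrom] at hr
    exact hr.2
  have hlt : ∀ (τ : ℕ → K), ∀ p ∈ D.posRoots.map (fun r => (r, τ r)), p.1 < D.nroots := by
    intro τ p hp
    rw [List.mem_map] at hp
    obtain ⟨r, hr, rfl⟩ := hp
    exact (hmemP r hr).1
  rw [M.π_word hD _ (hlt t), M.π_word hD _ (hlt t')] at h
  have hmem : (wordGL D hD (D.posRoots.map fun r => (r, t r)) : GL D.Idx K)
      ∈ D.posUnipotent K := by
    unfold wordGL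
    apply Subgroup.list_prod_mem
    intro g hg
    rw [List.mem_map] at hg
    obtain ⟨p, hp, rfl⟩ := hg
    rw [List.mem_map] at hp
    obtain ⟨r, hr, rfl⟩ := hp
    exact xGL_mem_pos D hD r (hmemP r hr) _
  obtain ⟨τ, -, huniq⟩ := (pos_unique_product (F := K) D hD).1 _ hmem
  have key : ∀ (σ : ℕ → K), D.posRoots.map (fun r => (r, σ r))
      = D.posRoots.map (fun r => (r, (fun r => if D.IsPosRoot r then σ r else 0) r)) := by
    intro σ
    apply List.map_congr_left
    intro r hr
    simp only [if_pos (hmemP r hr)]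
  have e1 := huniq (fun r => if D.IsPosRoot r then t r else 0)
    ⟨fun r hr => if_neg hr, by rw [wordGL_val, ← key t]⟩
  have e2 := huniq (fun r => if D.IsPosRoot r then t' r else 0)
    ⟨fun r hr => if_neg hr, by rw [h, wordGL_val, ← key t']⟩
  rw [key t, key t', e1, e2]

end Cfsg.Agent.Lib.Helper5.StPres
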