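import Mathlib
import Cfsg.Agent.Lib.Helper5.StPres.Model
import Cfsg.Agent.Lib.Helper5.StPres.Chk.OppAll
import Cfsg.Agent.Lib.Helper5.ChevNConj

set_option autoImplicit false

/-!
The opposite Steinberg generators `x_r(t) ↦ x_{-r}(-t)`, and groups with two homomorphisms to the
Chevalley group, one for each system of generators.
-/

namespace Cfsg.Agent.Lib.Helper5.StPres

open Cfsg Cfsg.Lie Cfsg.Agent.Lib.Helper5.ChevSym Cfsg.Agent.Lib.Helper5.ChevStruct

variable {D : ChevalleyDatum} {K : Type*} [Field K] {Γ : Type*} [Group Γ]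

theorem opp_coeff (D : ChevalleyDatum) (c : ℕ × ℤ × ℕ × ℕ) (t u : K) :
    (((oppTerm D c).2.1 : ℤ) : K) * (-(-t)) ^ (oppTerm D c).2.2.1 * (-u) ^ (oppTerm D c).2.2.2
      = -((c.2.1 : K) * (-t) ^ c.2.2.1 * u ^ c.2.2.2) := by
  obtain ⟨r, C, i, j⟩ := c
  unfold oppTerm
  simp only
  rw [neg_neg, neg_pow t, neg_pow u]
  have hadd : Nat.add i j = i + j := rfl
  have hmod : Nat.mod (i + j) 2 = (i + j) % 2 := rfl
  rw [hadd, hmod]
  rcases Nat.even_or_odd (i + j) with he | ho
  · have h0 : (i + j) % 2 = 0 := Nat.even_iff.1 he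
    have h1 : ((-1 : K)) ^ i * (-1) ^ j = 1 := by rw [← pow_add]; exact he.neg_one_pow
    have hb : Nat.beq ((i + j) % 2) 0 = true := by rw [h0]; rfl
    rw [hb, cond_true]
    have hC : ((Int.neg C : ℤ) : K) = -(C : K) := by
      show ((-C : ℤ) : K) = _
      push_cast; rfl
    rw [hC]
    have h2 : ((-1 : K)) ^ j = (-1) ^ i := by
      have h3 : ((-1 : K)) ^ i * (-1) ^ i = 1 := by
        rw [← mul_pow]; simp
      have : ((-1 : K)) ^ i * (-1) ^ j = (-1) ^ i * (-1) ^ i := by rw [h1, h3]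
      have hne : ((-1 : K)) ^ i ≠ 0 := pow_ne_zero _ (by simp)
      exact mul_left_cancel₀ hne this
    rw [h2]
    ring
  · have h0 : (i + j) % 2 = 1 := Nat.odd_iff.1 ho
    have h1 : ((-1 : K)) ^ i * (-1) ^ j = -1 := by rw [← pow_add]; exact ho.neg_one_pow
    have hb : Nat.beq ((i + j) % 2) 0 = false := by rw [h0]; rfl
    rw [hb, cond_false]
    have h2 : ((-1 : K)) ^ j = -(-1) ^ i := by
      have h3 : ((-1 : K)) ^ i * (-1) ^ i = 1 := by
        rw [← mul_pow]; simp
      have : ((-1 : K)) ^ i * (-1) ^ j = (-1) ^ i * (-(-1) ^ i) := by rw [h1, mul_neg, h3]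
      have hne : ((-1 : K)) ^ i ≠ 0 := pow_ne_zero _ (by simp)
      exact mul_left_cancel₀ hne this
    rw [h2]
    ring

/-- the roots of the terms of the commutator formula are in range -/
theorem commTerms_lt (hD : D ∈ Seven) (r s : ℕ) (hr : r < D.nroots) (hs : s < D.nroots)
    (hsr : s ≠ r) (hsn : s ≠ D.neg r) : ∀ c ∈ D.commTerms r s, c.1 < D.nroots :=
  (checkOppAt_spec D r (chkOpp_all D hD r hr) s hs hsr hsn).2

theorem commWord_lt (hD : D ∈ Seven) (r s : ℕ) (hr : r < D.nroots) (hs : s < D.nroots)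
    (hsr : s ≠ r) (hsn : s ≠ D.neg r) (t u : K) : ∀ p ∈ D.commWord K r s t u, p.1 < D.nroots := by
  intro p hp
  unfold ChevalleyDatum.commWord at hp
  rw [List.mem_map] at hp
  obtain ⟨c, hc, rfl⟩ := hp
  exact commTerms_lt hD r s hr hs hsr hsn c hc

/-- the commutator formula of the opposite pair -/
theorem commWord_opp (hD : D ∈ Seven) (r s : ℕ) (hr : r < D.nroots) (hs : s < D.nroots)
    (hsr : s ≠ r) (hsn : s ≠ D.neg r) (t u : K) :
    D.commWord K (D.neg r) (D.neg s) (-t) (-u)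
      = (D.commWord K r s t u).map fun p => (D.neg p.1, -p.2) := by
  unfold ChevalleyDatum.commWord
  rw [(checkOppAt_spec D r (chkOpp_all D hD r hr) s hs hsr hsn).1, List.map_map, List.map_map]
  apply List.map_congr_left
  intro c _
  simp only [Function.comp]
  rw [opp_coeff D c t u]
  rfl

/-- the opposite generators `x_r(t) ↦ x_{-r}(-t)` -/
def RootGens.opp (R : RootGens D K Γ) (hD : D ∈ Seven) : RootGens D K Γ where
  X r t := R.X (D.neg r) (-t)
  X_add := by
    intro r t u hr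
    rw [R.X_add _ _ _ (neg_lt D hD r hr).1, ← neg_add]
  X_comm := by
    intro r s t u hr hs hsr hsn
    obtain ⟨hnr, -, hnnr⟩ := neg_lt D hD r hr
    obtain ⟨hns, -, hnns⟩ := neg_lt D hD s hs
    have h1 : D.neg s ≠ D.neg r := by
      intro e
      apply hsr
      rw [← hnns, e, hnnr]
    have h2 : D.neg s ≠ D.neg (D.neg r) := by
      intro e
      apply hsn
      rw [← hnns, e, hnnr]
    rw [R.X_comm (D.neg r) (D.neg s) (-t) (-u) hnr hns h1 h2, commWord_opp hD r s hr hs hsr hsn,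
      List.map_map]
    rfl
  gen := by
    rw [eq_top_iff, ← R.gen, Subgroup.closure_le]
    rintro g ⟨r, t, hr, rfl⟩
    apply Subgroup.subset_closure
    obtain ⟨hnr, -, hnnr⟩ := neg_lt D hD r hr
    refine ⟨D.neg r, -t, hnr, ?_⟩
    rw [hnnr, neg_neg]

theorem RootGens.opp_X (R : RootGens D K Γ) (hD : D ∈ Seven) (r : ℕ) (t : K) :
    (R.opp hD).X r t = R.X (D.neg r) (-t) := rfl

/-- Steinberg generators with two homomorphisms to `GL`, matching the generators with the
`x_r(t)` and with the `x_{-r}(-t)` -/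
structure BiModel (D : ChevalleyDatum) (K : Type*) [Field K] (Γ : Type*) [Group Γ] where
  R : RootGens D K Γ
  π : Γ →* GL D.Idx K
  π_X : ∀ (r : ℕ) (t : K), r < D.nroots →
    ((π (R.X r t) : GL D.Idx K) : Matrix D.Idx D.Idx K) = D.x K r t
  π' : Γ →* GL D.Idx K
  π'_X : ∀ (r : ℕ) (t : K), r < D.nroots →
    ((π' (R.X r t) : GL D.Idx K) : Matrix D.Idx D.Idx K) = D.x K (D.neg r) (-t)

/-- the underlying model -/
def BiModel.model (B : BiModel D K Γ) : Model D K Γ := ⟨B.R, B.π, B.π_X⟩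

/-- the two systems of generators exchanged -/
def BiModel.swap (B : BiModel D K Γ) (hD : D ∈ Seven) : BiModel D K Γ where
  R := B.R.opp hD
  π := B.π'
  π_X := by
    intro r t hr
    obtain ⟨hnr, -, hnnr⟩ := neg_lt D hD r hr
    rw [RootGens.opp_X, B.π'_X _ _ hnr, hnnr, neg_neg]
  π' := B.π
  π'_X := by
    intro r t hr
    obtain ⟨hnr, -, hnnr⟩ := neg_lt D hD r hr
    rw [RootGens.opp_X, B.π_X _ _ hnr]

theorem BiModel.swap_X (B : BiModel D K Γ) (hD : D ∈ Seven) (r : ℕ) (t : K) :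
    (B.swap hD).R.X r t = B.R.X (D.neg r) (-t) := rfl

theorem BiModel.swap_π (B : BiModel D K Γ) (hD : D ∈ Seven) : (B.swap hD).π = B.π' := rfl

theorem BiModel.swap_π' (B : BiModel D K Γ) (hD : D ∈ Seven) : (B.swap hD).π' = B.π := rfl

end Cfsg.Agent.Lib.Helper5.StPres
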