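import Mathlib
import Cfsg.Agent.Lib.Helper5.StPres.Opp
import Cfsg.Agent.Lib.Helper5.StPres.GSide
import Cfsg.Agent.Lib.Helper5.ChevChk.UpAll
import Cfsg.Agent.Lib.Helper5.ChevChk.CoLinAll

set_option autoImplicit false

/-!
Conjugation of `X_s(u)` by `n̄_a(t)` for a fundamental root `a` and a root `s ≠ ±a`.
-/

namespace Cfsg.Agent.Lib.Helper5.StPres

open Cfsg Cfsg.Lie Cfsg.Agent.Lib.Helper5.ChevSym Cfsg.Agent.Lib.Helper5.ChevStruct

variable {D : ChevalleyDatum} {K : Type*} [Field K] {Γ : Type*} [Group Γ]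

/-- `n̄_a(t) = x̄_a(t) x̄_{-a}(-t⁻¹) x̄_a(t)` -/
def RootGens.nbar (R : RootGens D K Γ) (a : ℕ) (t : K) : Γ := R.word (D.nWord a t)

theorem RootGens.nbar_eq (R : RootGens D K Γ) (a : ℕ) (t : K) :
    R.nbar a t = R.X a t * R.X (D.neg a) (-t⁻¹) * R.X a t := by
  unfold RootGens.nbar ChevalleyDatum.nWord
  rw [R.word_cons, R.word_cons, R.word_cons, R.word_nil, mul_one, mul_assoc]

/-- the positive roots other than the `i`-th fundamental root -/
def posExcept (D : ChevalleyDatum) (i : ℕ) : Set ℕ := {s | D.IsPosRoot s ∧ s ≠ D.simple i}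

/-- the rank one subgroup `⟨X_a, X_{-a}⟩` -/
def RootGens.rankOne (R : RootGens D K Γ) (a : ℕ) : Subgroup Γ :=
  R.rootSub a ⊔ R.rootSub (D.neg a)

theorem RootGens.X_mem_rankOne (R : RootGens D K Γ) (a : ℕ) (t : K) : R.X a t ∈ R.rankOne a :=
  Subgroup.mem_sup_left (Subgroup.subset_closure ⟨t, rfl⟩)

theorem RootGens.X_neg_mem_rankOne (R : RootGens D K Γ) (a : ℕ) (t : K) :
    R.X (D.neg a) t ∈ R.rankOne a :=
  Subgroup.mem_sup_right (Subgroup.subset_closure ⟨t, rfl⟩)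

theorem RootGens.nbar_mem_rankOne (R : RootGens D K Γ) (a : ℕ) (t : K) :
    R.nbar a t ∈ R.rankOne a := by
  rw [R.nbar_eq]
  exact mul_mem (mul_mem (R.X_mem_rankOne a t) (R.X_neg_mem_rankOne a _)) (R.X_mem_rankOne a t)

/-- `⟨X_a, X_{-a}⟩` normalises `⟨X_s : s > 0, s ≠ a⟩` -/
theorem RootGens.rankOne_le_normalizer (R : RootGens D K Γ) (hD : D ∈ Seven) (i : ℕ)
    (hi : i < D.rank) :
    R.rankOne (D.simple i) ≤ Subgroup.normalizer (R.setSub (posExcept D i) : Set Γ) := by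
  obtain ⟨hp, hnp, hnn, hnlt, hall⟩ := checkUp_spec D i (chkUp_all D hD i hi)
  apply sup_le
  · apply R.rootSub_le_normalizer_setSub _ _ hp.1
    rintro s ⟨hs1, hs2⟩
    refine ⟨hs1.1, hs2, ?_, ?_⟩
    · rintro rfl
      exact hnp hs1
    · intro c hc
      exact (hall s hs1 hs2).1 c hc
  · apply R.rootSub_le_normalizer_setSub _ _ hnlt
    rintro s ⟨hs1, hs2⟩
    refine ⟨hs1.1, ?_, ?_, ?_⟩
    · rintro rfl
      exact hnp hs1
    · rw [hnn]
      exact hs2
    · intro c hc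
      exact (hall s hs1 hs2).2 c hc

theorem RootGens.setSub_posExcept_le (R : RootGens D K Γ) (i : ℕ) :
    R.setSub (posExcept D i) ≤ R.pos :=
  R.setSub_mono fun _ hs => hs.1

/-- an element normalising `⟨X_s : s > 0, s ≠ a⟩` acts on the generators as its image does -/
theorem Model.conj_eq_of_normalizes (M : Model D K Γ) (hD : D ∈ Seven) (i : ℕ) (g : Γ)
    (hg : g ∈ Subgroup.normalizer (M.R.setSub (posExcept D i) : Set Γ))
    (s : ℕ) (hs : s ∈ posExcept D i) (u : K) (s' : ℕ) (hs' : D.IsPosRoot s') (u' : K)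
    (h : M.π g * xGL D hD s u = xGL D hD s' u' * M.π g) :
    g * M.R.X s u * g⁻¹ = M.R.X s' u' := by
  apply M.inj_on_pos hD
  · apply M.R.setSub_posExcept_le i
    exact (Subgroup.mem_normalizer_iff.1 hg _).1 (M.R.X_mem_setSub _ s hs u)
  · exact M.R.X_mem_setSub _ s' hs' u'
  · rw [map_mul, map_mul, map_inv, M.π_X' hD s u hs.1.1, M.π_X' hD s' u' hs'.1, h]
    group

/-- the image of `n̄_a(t)` -/
theorem Model.π_nbar (M : Model D K Γ) (hD : D ∈ Seven) (a : ℕ) (ha : a < D.nroots) (t : K) :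
    ((M.π (M.R.nbar a t) : GL D.Idx K) : Matrix D.Idx D.Idx K) = D.nMat K a t := by
  rw [M.R.nbar_eq, map_mul, map_mul, Units.val_mul, Units.val_mul, M.π_X a t ha,
    M.π_X _ _ (neg_lt D hD a ha).1, nMat_eq]

/-- `n_a(t) x_s(u) = x_{w_a s}(c u) n_a(t)` -/
theorem nt_conj' (D : ChevalleyDatum) (hD : D ∈ Seven) (i : ℕ) (hi : i < D.rank) (t : K)
    (ht : t ≠ 0) (s : ℕ) (hs : s < D.nroots) (u : K) :
    D.nMat K (D.simple i) t * D.x K s u
      = D.x K (D.reflectRoot i s) (cst D i t s * u) * D.nMat K (D.simple i) t := by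
  rw [← nt_conj D hD i hi t ht s hs u, mul_assoc _ (D.nMat K (D.simple i) (-t))]
  have := nMat_mul_neg (F := K) D hD (D.simple i) (-t)
  rw [neg_neg] at this
  rw [this, mul_one]

/-- conjugation of `X_s(u)` by `n̄_a(t)`, `s > 0`, `s ≠ a` -/
theorem Model.nbar_conj_pos (M : Model D K Γ) (hD : D ∈ Seven) (i : ℕ) (hi : i < D.rank) (t : K)
    (ht : t ≠ 0) (s : ℕ) (hs : D.IsPosRoot s) (hsa : s ≠ D.simple i) (u : K) :
    M.R.nbar (D.simple i) t * M.R.X s u * (M.R.nbar (D.simple i) t)⁻¹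
      = M.R.X (D.reflectRoot i s) (cst D i t s * u) := by
  have hp := (checkUp_spec D i (chkUp_all D hD i hi)).1
  apply M.conj_eq_of_normalizes hD i _
    (M.R.rankOne_le_normalizer hD i hi (M.R.nbar_mem_rankOne _ t)) s ⟨hs, hsa⟩ u _
    ((checkCoLin_spec D i (chkCoLin_all D hD i hi) s hs.1).2 hs hsa)
  apply Units.ext
  rw [Units.val_mul, Units.val_mul, M.π_nbar hD _ hp.1, xGL_val, xGL_val]
  exact nt_conj' D hD i hi t ht s hs.1 u

/-- in the opposite generators, `n̄_a(t)` is `n̄'_{-a}(-t)` -/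
theorem RootGens.nbar_opp (R : RootGens D K Γ) (hD : D ∈ Seven) (a : ℕ) (ha : a < D.nroots)
    (t : K) : (R.opp hD).nbar (D.neg a) (-t) = R.nbar a t := by
  obtain ⟨-, -, hnn⟩ := neg_lt D hD a ha
  rw [RootGens.nbar_eq, RootGens.nbar_eq, RootGens.opp_X, RootGens.opp_X, hnn, neg_neg, neg_neg,
    inv_neg]

theorem RootGens.rankOne_opp (R : RootGens D K Γ) (hD : D ∈ Seven) (a : ℕ) (ha : a < D.nroots) :
    (R.opp hD).rankOne a = R.rankOne a := by
  obtain ⟨-, -, hnn⟩ := neg_lt D hD a ha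
  have key : ∀ b : ℕ, (R.opp hD).rootSub b = R.rootSub (D.neg b) := by
    intro b
    unfold RootGens.rootSub
    congr 1
    ext g
    constructor
    · rintro ⟨t, rfl⟩
      exact ⟨-t, rfl⟩
    · rintro ⟨t, rfl⟩
      exact ⟨-t, by show R.X (D.neg b) (- -t) = _; rw [neg_neg]⟩
  unfold RootGens.rankOne
  rw [key, key, hnn, sup_comm]

/-- conjugation of `X_s(u)` by `n̄_a(t)`, `s < 0`, `s ≠ -a` -/
theorem BiModel.nbar_conj_neg (B : BiModel D K Γ) (hD : D ∈ Seven) (i : ℕ) (hi : i < D.rank)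
    (t : K) (ht : t ≠ 0) (s : ℕ) (hs : s < D.nroots) (hsp : D.IsPosRoot (D.neg s))
    (hsa : s ≠ D.neg (D.simple i)) (u : K) :
    B.R.nbar (D.simple i) t * B.R.X s u * (B.R.nbar (D.simple i) t)⁻¹
      = B.R.X (D.reflectRoot i s) (cst D i t s * u) := by
  have hp := (checkUp_spec D i (chkUp_all D hD i hi)).1
  obtain ⟨hns, -, hnns⟩ := neg_lt D hD s hs
  obtain ⟨hna, -, hnna⟩ := neg_lt D hD _ hp.1
  have hsa' : D.neg s ≠ D.simple i := by
    intro e
    apply hsa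
    rw [← hnns, e]
  have hmem : B.R.nbar (D.simple i) t ∈ Subgroup.normalizer
      (((B.swap hD).model.R).setSub (posExcept D i) : Set Γ) := by
    apply ((B.swap hD).model.R).rankOne_le_normalizer hD i hi
    show B.R.nbar (D.simple i) t ∈ (B.R.opp hD).rankOne (D.simple i)
    rw [B.R.rankOne_opp hD _ hp.1]
    exact B.R.nbar_mem_rankOne _ t
  have hrp := (checkCoLin_spec D i (chkCoLin_all D hD i hi) _ hns).2 hsp hsa'
  have key := (B.swap hD).model.conj_eq_of_normalizes hD i _ hmem (D.neg s) ⟨hsp, hsa'⟩ (-u)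
    (D.reflectRoot i (D.neg s)) hrp (-(cst D i t s * u)) ?_
  · have e1 : (B.swap hD).model.R.X (D.neg s) (-u) = B.R.X s u := by
      show B.R.X (D.neg (D.neg s)) (- -u) = _
      rw [hnns, neg_neg]
    have e2 : (B.swap hD).model.R.X (D.reflectRoot i (D.neg s)) (-(cst D i t s * u))
        = B.R.X (D.reflectRoot i s) (cst D i t s * u) := by
      show B.R.X (D.neg (D.reflectRoot i (D.neg s))) (- -(cst D i t s * u)) = _
      rw [reflectRoot_neg D hD i hi s hs, (neg_lt D hD _ (reflectRoot_invol D hD i hi s hs).1).2.2,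
        neg_neg]
    rw [e1, e2] at key
    exact key
  · apply Units.ext
    have hπ : (((B.swap hD).model.π (B.R.nbar (D.simple i) t) : GL D.Idx K) :
        Matrix D.Idx D.Idx K) = D.nMat K (D.simple i) t⁻¹ := by
      show ((B.π' (B.R.nbar (D.simple i) t) : GL D.Idx K) : Matrix D.Idx D.Idx K) = _
      rw [← nMat_neg_root D hD _ hp.1 t ht, B.R.nbar_eq, map_mul, map_mul, Units.val_mul,
        Units.val_mul, B.π'_X _ _ hp.1, B.π'_X _ _ hna, nMat_eq, hnna, neg_neg, inv_neg, neg_neg]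
    rw [Units.val_mul, Units.val_mul, hπ, xGL_val, xGL_val,
      nt_conj' D hD i hi t⁻¹ (inv_ne_zero ht) _ hns (-u), cst_opp D hD i hi t s hs, mul_neg]

end Cfsg.Agent.Lib.Helper5.StPres
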