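import Mathlib
import Cfsg.Agent.Lib.Helper5.StPres.NConj
import Cfsg.Agent.Lib.Helper5.StPres.Chk.M3All
import Cfsg.Agent.Lib.Helper5.ChevBruhat

set_option autoImplicit false

/-!
Conjugation of `X_{±a}(u)` by `n̄_a(t)` for a fundamental root `a`, and the conjugation formula for
all roots.
-/

namespace Cfsg.Agent.Lib.Helper5.StPres

open Cfsg Cfsg.Lie Cfsg.Agent.Lib.Helper5.ChevSym Cfsg.Agent.Lib.Helper5.ChevStruct

variable {D : ChevalleyDatum} {K : Type*} [Field K] {Γ : Type*} [Group Γ]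

/-- the negative roots -/
def negRts (D : ChevalleyDatum) : Set ℕ := {s | s < D.nroots ∧ D.IsPosRoot (D.neg s)}

/-- `V̄ = ⟨X_s : s < 0⟩` -/
def RootGens.negSub (R : RootGens D K Γ) : Subgroup Γ := R.setSub (negRts D)

theorem RootGens.pos_opp (R : RootGens D K Γ) (hD : D ∈ Seven) : (R.opp hD).pos = R.negSub := by
  unfold RootGens.pos RootGens.negSub RootGens.setSub
  congr 1
  ext g
  constructor
  · rintro ⟨s, t, hs, rfl⟩
    have hs' : D.IsPosRoot s := hs
    obtain ⟨h1, -, h3⟩ := neg_lt D hD s hs'.1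
    refine ⟨D.neg s, -t, ⟨h1, ?_⟩, rfl⟩
    rw [h3]
    exact hs'
  · rintro ⟨s, t, ⟨hs1, hs2⟩, rfl⟩
    obtain ⟨h1, -, h3⟩ := neg_lt D hD s hs1
    refine ⟨D.neg s, -t, hs2, ?_⟩
    rw [RootGens.opp_X, h3, neg_neg]

theorem mem_negRts_of_not_pos (hD : D ∈ Seven) (s : ℕ) (hs : s < D.nroots)
    (h : ¬ D.IsPosRoot s) : s ∈ negRts D :=
  ⟨hs, pos_neg_of_not_pos D hD s hs h⟩

/-- conjugation of a word whose letters are conjugated to root elements -/
theorem RootGens.conj_word (R : RootGens D K Γ) (g : Γ) (f : ℕ → ℕ) (c : ℕ → K)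
    (w : List (ℕ × K)) (h : ∀ p ∈ w, g * R.X p.1 p.2 * g⁻¹ = R.X (f p.1) (c p.1 * p.2)) :
    g * R.word w * g⁻¹ = R.word (w.map fun p => (f p.1, c p.1 * p.2)) := by
  induction w with
  | nil =>
    rw [List.map_nil, R.word_nil, mul_one, mul_inv_cancel]
  | cons p w ih =>
    rw [List.map_cons, R.word_cons, R.word_cons, ← ih (fun q hq => h q (List.mem_cons_of_mem _ hq)),
      ← h p List.mem_cons_self]
    group

/-- the image of `n̄_a(t)` under the second homomorphism -/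
theorem BiModel.π'_nbar (B : BiModel D K Γ) (hD : D ∈ Seven) (a : ℕ) (ha : a < D.nroots) (t : K)
    (ht : t ≠ 0) :
    ((B.π' (B.R.nbar a t) : GL D.Idx K) : Matrix D.Idx D.Idx K) = D.nMat K a t⁻¹ := by
  obtain ⟨hna, -, hnna⟩ := neg_lt D hD a ha
  rw [← nMat_neg_root D hD a ha t ht, B.R.nbar_eq, map_mul, map_mul, Units.val_mul,
    Units.val_mul, B.π'_X _ _ ha, B.π'_X _ _ hna, nMat_eq, hnna, inv_neg, neg_neg]

/-- conjugation of `X_s(u)` by `n̄_a(t)`, `s ≠ ±a` -/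
theorem BiModel.nbar_conj_ne (B : BiModel D K Γ) (hD : D ∈ Seven) (i : ℕ) (hi : i < D.rank)
    (t : K) (ht : t ≠ 0) (s : ℕ) (hs : s < D.nroots) (hsa : s ≠ D.simple i)
    (hsna : s ≠ D.neg (D.simple i)) (u : K) :
    B.R.nbar (D.simple i) t * B.R.X s u * (B.R.nbar (D.simple i) t)⁻¹
      = B.R.X (D.reflectRoot i s) (cst D i t s * u) := by
  rcases pos_or_neg D hD s hs with hp | ⟨hp, -⟩
  · exact B.model.nbar_conj_pos hD i hi t ht s hp hsa u
  · exact B.nbar_conj_neg hD i hi t ht s hs hp hsna u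

theorem int_sq_of_pm (C : ℤ) (hC : C = 1 ∨ C = -1) : ((C : K)) * (C : K) = 1 := by
  rcases hC with rfl | rfl <;> simp

/-- conjugation of `X_a(u)` by `n̄_a(t)` lands in `V̄` -/
theorem BiModel.nbar_conj_self_mem (B : BiModel D K Γ) (hD : D ∈ Seven) (i : ℕ) (hi : i < D.rank)
    (t : K) (ht : t ≠ 0) (u : K) :
    B.R.nbar (D.simple i) t * B.R.X (D.simple i) u * (B.R.nbar (D.simple i) t)⁻¹
      ∈ B.R.negSub := by
  obtain ⟨γ, δ, hchk⟩ := chkM3_all D hD i hi
  obtain ⟨hγ, hδ, hδγ, hδnγ, hγa, hγna, hδa, hδna, ⟨C, q, pre, post, hC, hterms, hrest⟩, hneg⟩ :=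
    checkM3_spec D i γ δ hchk
  set n := B.R.nbar (D.simple i) t with hn
  -- the commutator relation
  have hcomm := B.R.X_comm γ δ (-(C : K) * u) 1 hγ hδ hδγ hδnγ
  set f : ℕ × ℤ × ℕ × ℕ → ℕ × K :=
    fun c => (c.1, (c.2.1 : K) * (-(-(C : K) * u)) ^ c.2.2.1 * (1 : K) ^ c.2.2.2) with hf
  have hw : D.commWord K γ δ (-(C : K) * u) 1
      = pre.map f ++ (D.simple i, u) :: post.map f := by
    unfold ChevalleyDatum.commWord
    rw [hterms, List.map_append, List.map_cons]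
    congr 2
    simp only
    congr 1
    rw [pow_one, one_pow, mul_one, neg_mul, neg_neg, ← mul_assoc, int_sq_of_pm C hC, one_mul]
  have hX : B.R.X (D.simple i) u = (B.R.word (pre.map f))⁻¹ *
      ((B.R.X δ 1)⁻¹ * (B.R.X γ (-(C : K) * u))⁻¹ * B.R.X δ 1 * B.R.X γ (-(C : K) * u)) *
      (B.R.word (post.map f))⁻¹ := by
    rw [hcomm, hw]
    have : ((pre.map f ++ (D.simple i, u) :: post.map f).map fun p => B.R.X p.1 p.2).prod
        = B.R.word (pre.map f) * B.R.X (D.simple i) u * B.R.word (post.map f) := by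
      show B.R.word (pre.map f ++ (D.simple i, u) :: post.map f) = _
      rw [B.R.word_append, B.R.word_cons, mul_assoc]
    rw [this]
    group
  -- conjugation of the pieces
  have hF : ∀ s, s < D.nroots → s ≠ D.simple i → s ≠ D.neg (D.simple i) → ∀ v : K,
      n * B.R.X s v * n⁻¹ = B.R.X (D.reflectRoot i s) (cst D i t s * v) :=
    fun s hs h1 h2 v => B.nbar_conj_ne hD i hi t ht s hs h1 h2 v
  have hpre : ∀ (l : List (ℕ × ℤ × ℕ × ℕ)), (∀ c ∈ l, c ∈ pre ∨ c ∈ post) →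
      n * B.R.word (l.map f) * n⁻¹ ∈ B.R.negSub := by
    intro l hl
    rw [B.R.conj_word n (D.reflectRoot i) (cst D i t) (l.map f)]
    · apply B.R.word_mem_setSub
      intro p hp
      rw [List.mem_map] at hp
      obtain ⟨p', hp', rfl⟩ := hp
      rw [List.mem_map] at hp'
      obtain ⟨c, hc, rfl⟩ := hp'
      obtain ⟨h1, h2, h3, h4⟩ := hrest c (hl c hc)
      exact mem_negRts_of_not_pos hD _ (reflectRoot_invol D hD i hi _ h1).1 h4
    · intro p hp
      rw [List.mem_map] at hp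
      obtain ⟨c, hc, rfl⟩ := hp
      obtain ⟨h1, h2, h3, h4⟩ := hrest c (hl c hc)
      exact hF c.1 h1 h2 h3 _
  have hγ' := (reflectRoot_invol D hD i hi γ hγ)
  have hδ' := (reflectRoot_invol D hD i hi δ hδ)
  have hne1 : D.reflectRoot i δ ≠ D.reflectRoot i γ := by
    intro e
    apply hδγ
    rw [← hδ'.2, e, hγ'.2]
  have hne2 : D.reflectRoot i δ ≠ D.neg (D.reflectRoot i γ) := by
    intro e
    apply hδnγ
    rw [← reflectRoot_neg D hD i hi γ hγ] at e
    rw [← hδ'.2, e, (reflectRoot_invol D hD i hi _ (neg_lt D hD γ hγ).1).2]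
  have hcomm' := B.R.X_comm (D.reflectRoot i γ) (D.reflectRoot i δ)
    (cst D i t γ * (-(C : K) * u)) (cst D i t δ * 1) hγ'.1 hδ'.1 hne1 hne2
  have hconj : n * B.R.X (D.simple i) u * n⁻¹
      = (n * B.R.word (pre.map f) * n⁻¹)⁻¹ *
        ((n * B.R.X δ 1 * n⁻¹)⁻¹ * (n * B.R.X γ (-(C : K) * u) * n⁻¹)⁻¹ * (n * B.R.X δ 1 * n⁻¹)
          * (n * B.R.X γ (-(C : K) * u) * n⁻¹)) *
        (n * B.R.word (post.map f) * n⁻¹)⁻¹ := by
    rw [hX]
    group
  rw [hconj, hF γ hγ hγa hγna, hF δ hδ hδa hδna, hcomm']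
  apply mul_mem (mul_mem (inv_mem (hpre pre fun c hc => Or.inl hc)) ?_)
    (inv_mem (hpre post fun c hc => Or.inr hc))
  show B.R.word _ ∈ _
  apply B.R.word_mem_setSub
  intro p hp
  unfold ChevalleyDatum.commWord at hp
  rw [List.mem_map] at hp
  obtain ⟨c, hc, rfl⟩ := hp
  obtain ⟨h1, h2⟩ := hneg c hc
  exact mem_negRts_of_not_pos hD _ h1 h2

/-- conjugation of `X_a(u)` by `n̄_a(t)` -/
theorem BiModel.nbar_conj_self (B : BiModel D K Γ) (hD : D ∈ Seven) (i : ℕ) (hi : i < D.rank)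
    (t : K) (ht : t ≠ 0) (u : K) :
    B.R.nbar (D.simple i) t * B.R.X (D.simple i) u * (B.R.nbar (D.simple i) t)⁻¹
      = B.R.X (D.neg (D.simple i)) (cst D i t (D.simple i) * u) := by
  have hp := (checkUp_spec D i (chkUp_all D hD i hi)).1
  obtain ⟨hna, -, hnna⟩ := neg_lt D hD _ hp.1
  apply (B.swap hD).model.inj_on_pos hD
  · show _ ∈ (B.R.opp hD).pos
    rw [B.R.pos_opp hD]
    exact B.nbar_conj_self_mem hD i hi t ht u
  · show _ ∈ (B.R.opp hD).pos
    rw [B.R.pos_opp hD]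
    apply B.R.X_mem_setSub
    refine ⟨hna, ?_⟩
    rw [hnna]
    exact hp
  · show B.π' _ = B.π' _
    have key : B.π' (B.R.nbar (D.simple i) t) * B.π' (B.R.X (D.simple i) u)
        = B.π' (B.R.X (D.neg (D.simple i)) (cst D i t (D.simple i) * u))
          * B.π' (B.R.nbar (D.simple i) t) := by
      apply Units.ext
      rw [Units.val_mul, Units.val_mul, B.π'_nbar hD _ hp.1 t ht, B.π'_X _ _ hp.1, B.π'_X _ _ hna,
        nt_conj' D hD i hi t⁻¹ (inv_ne_zero ht) _ hna (-u), cst_opp D hD i hi t _ hp.1,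
        reflectRoot_neg D hD i hi _ hp.1, reflectRoot_simple, mul_neg]
    rw [map_mul, map_mul, map_inv, key]
    group

end Cfsg.Agent.Lib.Helper5.StPres
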