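import Mathlib
import Cfsg.Agent.Lib.Helper5.StPres.M3
import Cfsg.Agent.Lib.Helper5.ChevXInj

set_option autoImplicit false

/-!
The conjugation formula `n̄_a(t) X_s(u) n̄_a(t)⁻¹ = X_{w_a s}(c u)` for all roots `s`, and the action
of the subgroup `N̄ = ⟨n̄_a(t)⟩` on the root subgroups.
-/

namespace Cfsg.Agent.Lib.Helper5.StPres

open Cfsg Cfsg.Lie Cfsg.Agent.Lib.Helper5.ChevSym Cfsg.Agent.Lib.Helper5.ChevStruct

variable {D : ChevalleyDatum} {K : Type*} [Field K] {Γ : Type*} [Group Γ]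

/-- `t ↦ x_a(t)` is injective -/
theorem x_param_inj (D : ChevalleyDatum) (hD : D ∈ Seven) (a : ℕ) (ha : a < D.nroots) (t u : K)
    (h : D.x K a t = D.x K a u) : t = u := by
  obtain ⟨-, hna, hnea, -⟩ := checkCoPrim_spec D (chkCoPrim_all D hD) a ha
  obtain ⟨i, hi, hci⟩ := exists_coroot_ne_zero (F := K) D hD a ha
  unfold ChevalleyDatum.x at h
  rw [dif_pos ha, dif_pos ha] at h
  have h1 := xMat_inl_neg D ⟨a, ha⟩ ⟨D.neg a, hna⟩ rfl
    (fun e => hnea (congrArg Fin.val e)) t ⟨i, hi⟩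
  have h2 := xMat_inl_neg D ⟨a, ha⟩ ⟨D.neg a, hna⟩ rfl
    (fun e => hnea (congrArg Fin.val e)) u ⟨i, hi⟩
  rw [h, h2] at h1
  exact (mul_left_cancel₀ hci h1).symm

/-- two root elements of a model are equal iff they have the same root and parameter -/
theorem Model.X_inj (M : Model D K Γ) (hD : D ∈ Seven) (a b : ℕ) (ha : a < D.nroots)
    (hb : b < D.nroots) (t u : K) (ht : t ≠ 0) (h : M.R.X a t = M.R.X b u) : a = b ∧ t = u := by
  have h1 : ((M.π (M.R.X a t) : GL D.Idx K) : Matrix D.Idx D.Idx K)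
      = ((M.π (M.R.X b u) : GL D.Idx K) : Matrix D.Idx D.Idx K) := by rw [h]
  rw [M.π_X a t ha, M.π_X b u hb] at h1
  have hab := x_root_inj D hD a b ha hb t u ht h1
  subst hab
  exact ⟨rfl, x_param_inj D hD a ha t u h1⟩

theorem RootGens.nbar_mul_neg (R : RootGens D K Γ) (hD : D ∈ Seven) (a : ℕ) (ha : a < D.nroots)
    (t : K) : R.nbar a t * R.nbar a (-t) = 1 := by
  obtain ⟨hna, -, -⟩ := neg_lt D hD a ha
  rw [R.nbar_eq, R.nbar_eq, inv_neg, neg_neg, R.X_neg a ha, R.X_neg _ hna t⁻¹]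
  group

theorem RootGens.nbar_inv (R : RootGens D K Γ) (hD : D ∈ Seven) (a : ℕ) (ha : a < D.nroots)
    (t : K) : (R.nbar a t)⁻¹ = R.nbar a (-t) :=
  inv_eq_of_mul_eq_one_right (R.nbar_mul_neg hD a ha t)

theorem BiModel.π_nbar (B : BiModel D K Γ) (hD : D ∈ Seven) (a : ℕ) (ha : a < D.nroots) (t : K) :
    ((B.π (B.R.nbar a t) : GL D.Idx K) : Matrix D.Idx D.Idx K) = D.nMat K a t :=
  B.model.π_nbar hD a ha t

/-- conjugation of `X_{-a}(u)` by `n̄_a(t)` -/
theorem BiModel.nbar_conj_opp (B : BiModel D K Γ) (hD : D ∈ Seven) (i : ℕ) (hi : i < D.rank)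
    (t : K) (ht : t ≠ 0) (u : K) :
    B.R.nbar (D.simple i) t * B.R.X (D.neg (D.simple i)) u * (B.R.nbar (D.simple i) t)⁻¹
      = B.R.X (D.simple i) (cst D i t (D.neg (D.simple i)) * u) := by
  have hp := (checkUp_spec D i (chkUp_all D hD i hi)).1
  obtain ⟨hna, -, hnna⟩ := neg_lt D hD _ hp.1
  have hnt : -t ≠ 0 := neg_ne_zero.2 ht
  have hc := cst_ne_zero D hD i hi (-t) hnt _ hp.1
  have h1 := B.nbar_conj_self hD i hi (-t) hnt ((cst D i (-t) (D.simple i))⁻¹ * u)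
  rw [← mul_assoc, mul_inv_cancel₀ hc, one_mul, ← B.R.nbar_inv hD _ hp.1 t, inv_inv] at h1
  -- `X_{-a}(u) = n̄⁻¹ X_a(v) n̄`
  have h2 : B.R.nbar (D.simple i) t * B.R.X (D.neg (D.simple i)) u * (B.R.nbar (D.simple i) t)⁻¹
      = B.R.X (D.simple i) ((cst D i (-t) (D.simple i))⁻¹ * u) := by
    rw [← h1]
    group
  rw [h2]
  congr 1
  -- compare the images
  have h3 : ((B.π (B.R.nbar (D.simple i) t * B.R.X (D.neg (D.simple i)) u
        * (B.R.nbar (D.simple i) t)⁻¹) : GL D.Idx K) : Matrix D.Idx D.Idx K)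
      = ((B.π (B.R.X (D.simple i) ((cst D i (-t) (D.simple i))⁻¹ * u)) : GL D.Idx K) :
        Matrix D.Idx D.Idx K) := by rw [h2]
  rw [B.π_X _ _ hp.1, map_mul, map_mul, map_inv] at h3
  have h4 : B.π (B.R.nbar (D.simple i) t) * B.π (B.R.X (D.neg (D.simple i)) u)
      = xGL D hD (D.simple i) (cst D i t (D.neg (D.simple i)) * u)
        * B.π (B.R.nbar (D.simple i) t) := by
    apply Units.ext
    rw [Units.val_mul, Units.val_mul, B.π_nbar hD _ hp.1, B.π_X _ _ hna, xGL_val,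
      nt_conj' D hD i hi t ht _ hna u, reflectRoot_neg D hD i hi _ hp.1, reflectRoot_simple, hnna]
  rw [h4, mul_assoc, mul_inv_cancel, mul_one, xGL_val] at h3
  exact (x_param_inj D hD _ hp.1 _ _ h3).symm

/-- conjugation of `X_s(u)` by `n̄_a(t)`, all roots `s` -/
theorem BiModel.nbar_conj_all (B : BiModel D K Γ) (hD : D ∈ Seven) (i : ℕ) (hi : i < D.rank)
    (t : K) (ht : t ≠ 0) (s : ℕ) (hs : s < D.nroots) (u : K) :
    B.R.nbar (D.simple i) t * B.R.X s u * (B.R.nbar (D.simple i) t)⁻¹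
      = B.R.X (D.reflectRoot i s) (cst D i t s * u) := by
  have hp := (checkUp_spec D i (chkUp_all D hD i hi)).1
  by_cases h1 : s = D.simple i
  · rw [h1, reflectRoot_simple]
    exact B.nbar_conj_self hD i hi t ht u
  · by_cases h2 : s = D.neg (D.simple i)
    · rw [h2, reflectRoot_neg D hD i hi _ hp.1, reflectRoot_simple, (neg_lt D hD _ hp.1).2.2]
      exact B.nbar_conj_opp hD i hi t ht u
    · exact B.nbar_conj_ne hD i hi t ht s hs h1 h2 u

/-- `cst` at the opposite root -/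
theorem cst_neg (D : ChevalleyDatum) (hD : D ∈ Seven) (i : ℕ) (hi : i < D.rank) (t : K)
    (s : ℕ) (hs : s < D.nroots) : cst D i t (D.neg s) = (cst D i t s)⁻¹ := by
  unfold cst
  rw [eta_neg D hD i hi s hs, reflectRoot_neg D hD i hi s hs]
  have h := (weightsOK_all D hD).neg (D.reflectRoot i s) (reflectRoot_invol D hD i hi s hs).1 i hi
  have h' : D.cartan i (D.neg (D.reflectRoot i s)) = - D.cartan i (D.reflectRoot i s) := h
  rw [h', zpow_neg, mul_inv]
  congr 1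
  rcases eta_sq D hD i hi s hs with h1 | h1 <;> rw [h1] <;> simp

/-- `g` acts on the root subgroups through the permutation `w` of the roots -/
structure NActs (R : RootGens D K Γ) (g : Γ) (w : ℕ → ℕ) (c : ℕ → K) : Prop where
  lt : ∀ s < D.nroots, w s < D.nroots
  ne : ∀ s < D.nroots, c s ≠ 0
  neg : ∀ s < D.nroots, w (D.neg s) = D.neg (w s)
  cneg : ∀ s < D.nroots, c (D.neg s) = (c s)⁻¹
  conj : ∀ s < D.nroots, ∀ u : K, g * R.X s u * g⁻¹ = R.X (w s) (c s * u)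

theorem NActs.one (R : RootGens D K Γ) : NActs R 1 id (fun _ => 1) where
  lt := fun s hs => hs
  ne := fun _ _ => one_ne_zero
  neg := fun _ _ => rfl
  cneg := fun _ _ => inv_one.symm
  conj := fun s _ u => by simp

theorem NActs.mul {R : RootGens D K Γ} {g g' : Γ} {w w' : ℕ → ℕ} {c c' : ℕ → K}
    (h : NActs R g w c) (h' : NActs R g' w' c') :
    NActs R (g * g') (w ∘ w') (fun s => c (w' s) * c' s) where
  lt := fun s hs => h.lt _ (h'.lt s hs)
  ne := fun s hs => mul_ne_zero (h.ne _ (h'.lt s hs)) (h'.ne s hs)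
  neg := fun s hs => by
    show w (w' (D.neg s)) = D.neg (w (w' s))
    rw [h'.neg s hs, h.neg _ (h'.lt s hs)]
  cneg := fun s hs => by
    show c (w' (D.neg s)) * c' (D.neg s) = (c (w' s) * c' s)⁻¹
    rw [h'.neg s hs, h.cneg _ (h'.lt s hs), h'.cneg s hs, mul_inv]
  conj := fun s hs u => by
    have e : g * g' * R.X s u * (g * g')⁻¹ = g * (g' * R.X s u * g'⁻¹) * g⁻¹ := by group
    rw [e, h'.conj s hs, h.conj _ (h'.lt s hs), mul_assoc]
    rfl

theorem BiModel.nActs_nbar (B : BiModel D K Γ) (hD : D ∈ Seven) (i : ℕ) (hi : i < D.rank) (t : K)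
    (ht : t ≠ 0) : NActs B.R (B.R.nbar (D.simple i) t) (D.reflectRoot i) (cst D i t) where
  lt := fun s hs => (reflectRoot_invol D hD i hi s hs).1
  ne := fun s hs => cst_ne_zero D hD i hi t ht s hs
  neg := fun s hs => reflectRoot_neg D hD i hi s hs
  cneg := fun s hs => cst_neg D hD i hi t s hs
  conj := fun s hs u => B.nbar_conj_all hD i hi t ht s hs u

/-- `N̄`, generated by the `n̄_a(t)`, `a` fundamental -/
def RootGens.nSub (R : RootGens D K Γ) : Subgroup Γ :=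
  Subgroup.closure {g | ∃ (i : ℕ) (t : K), i < D.rank ∧ t ≠ 0 ∧ g = R.nbar (D.simple i) t}

theorem RootGens.nbar_mem_nSub (R : RootGens D K Γ) (i : ℕ) (hi : i < D.rank) (t : K)
    (ht : t ≠ 0) : R.nbar (D.simple i) t ∈ R.nSub :=
  Subgroup.subset_closure ⟨i, t, hi, ht, rfl⟩

/-- every element of `N̄` acts on the root subgroups -/
theorem BiModel.exists_nActs (B : BiModel D K Γ) (hD : D ∈ Seven) (g : Γ) (hg : g ∈ B.R.nSub) :
    ∃ (w : ℕ → ℕ) (c : ℕ → K), NActs B.R g w c := by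
  unfold RootGens.nSub at hg
  induction hg using Subgroup.closure_induction_left with
  | one => exact ⟨_, _, NActs.one B.R⟩
  | mul_left x hx y _ ih =>
    obtain ⟨i, t, hi, ht, rfl⟩ := hx
    obtain ⟨w, c, h⟩ := ih
    exact ⟨_, _, (B.nActs_nbar hD i hi t ht).mul h⟩
  | inv_mul_cancel x hx y _ ih =>
    obtain ⟨i, t, hi, ht, rfl⟩ := hx
    obtain ⟨w, c, h⟩ := ih
    have hp := (checkUp_spec D i (chkUp_all D hD i hi)).1
    rw [B.R.nbar_inv hD _ hp.1]
    exact ⟨_, _, (B.nActs_nbar hD i hi (-t) (neg_ne_zero.2 ht)).mul h⟩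

end Cfsg.Agent.Lib.Helper5.StPres
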