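import Mathlib
import Cfsg.Prelude.Def_Chevalley
import Cfsg.Agent.Lib.Helper5.StPres.Opp
import Cfsg.Agent.Lib.Helper5.ChevChk.AddAll
import Cfsg.Agent.Lib.Helper5.ChevComm

set_option autoImplicit false

/-!
Homomorphisms from the presented groups to a group with Steinberg generators, and the Steinberg
generators of the Chevalley group itself.
-/

namespace Cfsg.Agent.Lib.Helper5.StPres

open Cfsg Cfsg.Lie Cfsg.Agent.Lib.Helper5.ChevSym Cfsg.Agent.Lib.Helper5.ChevStruct

variable {D : ChevalleyDatum} {K : Type*} [Field K] {Γ : Type*} [Group Γ]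

/-- the images of the free generators -/
def RootGens.liftFun (R : RootGens D K Γ) : Fin D.nroots × K → Γ := fun p => R.X p.1 p.2

theorem RootGens.lift_stX (R : RootGens D K Γ) (r : ℕ) (hr : r < D.nroots) (t : K) :
    FreeGroup.lift R.liftFun (D.stX r t) = R.X r t := by
  unfold ChevalleyDatum.stX
  rw [dif_pos hr, FreeGroup.lift_apply_of]
  rfl

theorem RootGens.lift_stWord (R : RootGens D K Γ) (w : List (ℕ × K))
    (hw : ∀ p ∈ w, p.1 < D.nroots) : FreeGroup.lift R.liftFun (D.stWord w) = R.word w := by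
  induction w with
  | nil =>
    unfold ChevalleyDatum.stWord
    rw [List.map_nil, List.prod_nil, map_one]
    rfl
  | cons p w ih =>
    have e : D.stWord (p :: w) = D.stX p.1 p.2 * D.stWord w := by
      unfold ChevalleyDatum.stWord
      rw [List.map_cons, List.prod_cons]
    rw [e, map_mul, R.lift_stX p.1 (hw p List.mem_cons_self), R.word_cons,
      ih fun q hq => hw q (List.mem_cons_of_mem _ hq)]

/-- the relators (R1), (R2) hold for Steinberg generators -/
theorem RootGens.lift_relsAB (R : RootGens D K Γ) (hD : D ∈ Seven) :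
    ∀ g ∈ D.steinbergRelsAB K, FreeGroup.lift R.liftFun g = 1 := by
  rintro g (⟨r, t₁, t₂, hr, rfl⟩ | ⟨r, s, t, u, hr, hs, hsr, hsn, rfl⟩)
  · rw [map_mul, map_mul, map_inv, R.lift_stX r hr, R.lift_stX r hr, R.lift_stX r hr,
      R.X_add r t₁ t₂ hr, mul_inv_cancel]
  · rw [map_mul, map_mul, map_mul, map_mul, map_inv, map_inv, map_inv, R.lift_stX r hr,
      R.lift_stX s hs, R.lift_stWord _ (commWord_lt hD r s hr hs hsr hsn t u),
      R.X_comm r s t u hr hs hsr hsn]
    exact mul_inv_cancel _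

/-- the homomorphism from the group presented by (R1), (R2) -/
def RootGens.fromCover (R : RootGens D K Γ) (hD : D ∈ Seven) : D.SteinbergCover K →* Γ :=
  PresentedGroup.toGroup (R.lift_relsAB hD)

theorem RootGens.fromCover_scGen (R : RootGens D K Γ) (hD : D ∈ Seven) (r : ℕ)
    (hr : r < D.nroots) (t : K) : R.fromCover hD (D.scGen K r t) = R.X r t := by
  unfold RootGens.fromCover ChevalleyDatum.scGen
  have : PresentedGroup.toGroup (R.lift_relsAB hD) (PresentedGroup.mk _ (D.stX r t))
      = FreeGroup.lift R.liftFun (D.stX r t) := rfl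
  rw [this, R.lift_stX r hr]

/-- `h̄_r(t)` -/
def RootGens.hbar (R : RootGens D K Γ) (a : ℕ) (t : K) : Γ := R.word (D.hWord a t)

/-- the relators (R1), (R2), (R3) hold for Steinberg generators with multiplicative `h̄` -/
theorem RootGens.lift_rels (R : RootGens D K Γ) (hD : D ∈ Seven)
    (hR3 : ∀ (r : ℕ) (t₁ t₂ : K), r < D.nroots → t₁ ≠ 0 → t₂ ≠ 0 →
      R.hbar r t₁ * R.hbar r t₂ = R.hbar r (t₁ * t₂)) :
    ∀ g ∈ D.steinbergRels K, FreeGroup.lift R.liftFun g = 1 := by
  rintro g ((h | h) | ⟨r, t₁, t₂, hr, h1, h2, rfl⟩)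
  · exact R.lift_relsAB hD g (Or.inl h)
  · exact R.lift_relsAB hD g (Or.inr h)
  · have hw : ∀ t : K, ∀ p ∈ D.hWord r t, p.1 < D.nroots := by
      intro t p hp
      unfold ChevalleyDatum.hWord ChevalleyDatum.nWord at hp
      simp only [List.cons_append, List.nil_append, List.mem_cons, List.not_mem_nil,
        or_false] at hp
      rcases hp with rfl | rfl | rfl | rfl | rfl | rfl
      all_goals first | exact hr | exact (neg_lt D hD r hr).1
    unfold ChevalleyDatum.stH
    rw [map_mul, map_mul, map_inv, R.lift_stWord _ (hw t₁), R.lift_stWord _ (hw t₂),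
      R.lift_stWord _ (hw (t₁ * t₂))]
    show R.hbar r t₁ * R.hbar r t₂ * (R.hbar r (t₁ * t₂))⁻¹ = 1
    rw [hR3 r t₁ t₂ hr h1 h2, mul_inv_cancel]

/-- the homomorphism from the group presented by (R1), (R2), (R3) -/
def RootGens.fromSt (R : RootGens D K Γ) (hD : D ∈ Seven)
    (hR3 : ∀ (r : ℕ) (t₁ t₂ : K), r < D.nroots → t₁ ≠ 0 → t₂ ≠ 0 →
      R.hbar r t₁ * R.hbar r t₂ = R.hbar r (t₁ * t₂)) : D.SteinbergGroup K →* Γ :=
  PresentedGroup.toGroup (R.lift_rels hD hR3)

theorem RootGens.fromSt_stGen (R : RootGens D K Γ) (hD : D ∈ Seven)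
    (hR3 : ∀ (r : ℕ) (t₁ t₂ : K), r < D.nroots → t₁ ≠ 0 → t₂ ≠ 0 →
      R.hbar r t₁ * R.hbar r t₂ = R.hbar r (t₁ * t₂)) (r : ℕ)
    (hr : r < D.nroots) (t : K) : R.fromSt hD hR3 (D.stGen K r t) = R.X r t := by
  unfold RootGens.fromSt ChevalleyDatum.stGen
  have : PresentedGroup.toGroup (R.lift_rels hD hR3) (PresentedGroup.mk _ (D.stX r t))
      = FreeGroup.lift R.liftFun (D.stX r t) := rfl
  rw [this, R.lift_stX r hr]

/-! ### The Chevalley group -/

/-- `x_r(t)` as an element of the Chevalley group -/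
def xG (D : ChevalleyDatum) (hD : D ∈ Seven) (r : ℕ) (t : K) : ↥(D.group K) :=
  ⟨xGL D hD r t, xGL_mem_group D hD r t⟩

theorem xG_val (D : ChevalleyDatum) (hD : D ∈ Seven) (r : ℕ) (t : K) :
    (((xG D hD r t : ↥(D.group K)) : GL D.Idx K) : Matrix D.Idx D.Idx K) = D.x K r t :=
  xGL_val D hD r t

theorem subtype_word_xG (D : ChevalleyDatum) (hD : D ∈ Seven) (w : List (ℕ × K)) :
    (((w.map fun p => xG (K := K) D hD p.1 p.2).prod : ↥(D.group K)) : GL D.Idx K)
      = wordGL D hD w := by
  induction w with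
  | nil => rfl
  | cons p w ih =>
    rw [List.map_cons, List.prod_cons, Subgroup.coe_mul, ih]
    unfold wordGL
    rw [List.map_cons, List.prod_cons]
    rfl

/-- the Steinberg generators of the Chevalley group -/
def gGens (D : ChevalleyDatum) (hD : D ∈ Seven) (K : Type*) [Field K] :
    RootGens D K ↥(D.group K) where
  X := xG D hD
  X_add := by
    intro r t u hr
    apply Subtype.ext
    apply Units.ext
    show ((xGL D hD r t * xGL D hD r u : GL D.Idx K) : Matrix D.Idx D.Idx K)
      = ((xGL D hD r (t + u) : GL D.Idx K) : Matrix D.Idx D.Idx K)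
    rw [Units.val_mul, xGL_val, xGL_val, xGL_val, x_add D hD]
  X_comm := by
    intro r s t u hr hs hsr hsn
    apply Subtype.ext
    rw [subtype_word_xG]
    have h := comm_formula (F := K) D hD r s hr hs hsr hsn t u
    have h' : xGL D hD s u * xGL D hD r t
        = xGL D hD r t * xGL D hD s u * wordGL D hD (D.commWord K r s t u) := by
      apply Units.ext
      rw [Units.val_mul, Units.val_mul, Units.val_mul, xGL_val, xGL_val, wordGL_val]
      exact h
    show (xGL D hD s u)⁻¹ * (xGL D hD r t)⁻¹ * xGL D hD s u * xGL D hD r t = _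
    rw [mul_assoc _ (xGL D hD s u), h']
    group
  gen := by
    rw [eq_top_iff]
    have h := Subgroup.closure_closure_coe_preimage
      (k := {g : GL D.Idx K | ∃ (r : Fin D.nroots) (t : K),
        (g : Matrix D.Idx D.Idx K) = D.xMat K r t})
    have h' : (⊤ : Subgroup ↥(D.group K)) ≤ Subgroup.closure
        (((↑) : ↥(D.group K) → GL D.Idx K) ⁻¹' {g : GL D.Idx K | ∃ (r : Fin D.nroots) (t : K),
          (g : Matrix D.Idx D.Idx K) = D.xMat K r t}) := h.ge
    refine le_trans h' (Subgroup.closure_mono ?_)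
    rintro g ⟨r, t, hg⟩
    refine ⟨r.val, t, r.2, ?_⟩
    apply Subtype.ext
    apply Units.ext
    rw [hg]
    show _ = ((xGL D hD r.val t : GL D.Idx K) : Matrix D.Idx D.Idx K)
    rw [xGL_val]
    unfold ChevalleyDatum.x
    rw [dif_pos r.2]

end Cfsg.Agent.Lib.Helper5.StPres
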