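import Mathlib
import Cfsg.Prelude.Def_ChevStructure
import Cfsg.Prelude.Def_ChevG2
import Cfsg.Prelude.Def_ChevB2
import Cfsg.Prelude.Def_ChevD4
import Cfsg.Prelude.Def_ChevF4
import Cfsg.Prelude.Def_ChevE6
import Cfsg.Prelude.Def_ChevE7
import Cfsg.Prelude.Def_ChevE8
import Cfsg.Agent.Lib.Helper5.ChevSymCore

set_option autoImplicit false

/-!
Every root which is not positive is mapped to a root of larger index by some fundamental reflection.
-/

namespace Cfsg.Agent.Lib.Helper5.ChevSym

open Cfsg Cfsg.Lie

/-- every non-positive root is lifted by a fundamental reflection -/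
def checkLift (D : ChevalleyDatum) : Bool :=
  (List.range D.nroots).all fun r => canon (fun r =>
    decide (D.IsPosRoot r) || (List.range D.rank).any fun i => Nat.blt r (D.reflectRoot i r)) r

theorem checkLift_spec (D : ChevalleyDatum) (h : checkLift D = true) (r : ℕ) (hr : r < D.nroots)
    (hn : ¬ D.IsPosRoot r) : ∃ i < D.rank, r < D.reflectRoot i r := by
  unfold checkLift at h
  rw [List.all_eq_true] at h
  have := h r (List.mem_range.2 hr)
  rw [canon_eq, Bool.or_eq_true, decide_eq_true_eq, List.any_eq_true] at this
  rcases this with h1 | ⟨i, hi, h2⟩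
  · exact absurd h1 hn
  · exact ⟨i, List.mem_range.1 hi, by rwa [Nat.blt_eq] at h2⟩

set_option maxRecDepth 1000000 in
theorem chkLift_G2 : checkLift chevG2 = true := by decide +kernel

set_option maxRecDepth 1000000 in
theorem chkLift_B2 : checkLift chevB2 = true := by decide +kernel

set_option maxRecDepth 1000000 in
theorem chkLift_D4 : checkLift chevD4 = true := by decide +kernel

set_option maxRecDepth 1000000 in
theorem chkLift_F4 : checkLift chevF4 = true := by decide +kernel

set_option maxRecDepth 1000000 in
theorem chkLift_E6 : checkLift chevE6 = true := by decide +kernel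

set_option maxRecDepth 1000000 in
theorem chkLift_E7 : checkLift chevE7 = true := by decide +kernel

set_option maxRecDepth 1000000 in
theorem chkLift_E8 : checkLift chevE8 = true := by decide +kernel

theorem chkLift_all (D : ChevalleyDatum)
    (hD : D ∈ [chevG2, chevB2, chevD4, chevF4, chevE6, chevE7, chevE8]) : checkLift D = true := by
  simp only [List.mem_cons, List.not_mem_nil, or_false] at hD
  rcases hD with rfl | rfl | rfl | rfl | rfl | rfl | rfl
  · exact chkLift_G2
  · exact chkLift_B2
  · exact chkLift_D4
  · exact chkLift_F4
  · exact chkLift_E6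
  · exact chkLift_E7
  · exact chkLift_E8

end Cfsg.Agent.Lib.Helper5.ChevSym
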