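import Mathlib
import Cfsg.Agent.Lib.Helper5.StPres.NAct
import Cfsg.Agent.Lib.Helper5.StPres.LiftDef

set_option autoImplicit false

/-!
The Bruhat decomposition `Γ = Ū N̄ Ū` of a group with Steinberg generators and two homomorphisms to
the Chevalley group.
-/

namespace Cfsg.Agent.Lib.Helper5.StPres

open Cfsg Cfsg.Lie Cfsg.Agent.Lib.Helper5.ChevSym Cfsg.Agent.Lib.Helper5.ChevStruct

variable {D : ChevalleyDatum} {K : Type*} [Field K] {Γ : Type*} [Group Γ]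

/-- the set `Ū N̄ Ū` -/
def RootGens.big (R : RootGens D K Γ) : Set Γ :=
  {g | ∃ u ∈ R.pos, ∃ n ∈ R.nSub, ∃ v ∈ R.pos, g = u * n * v}

theorem RootGens.one_mem_big (R : RootGens D K Γ) : (1 : Γ) ∈ R.big :=
  ⟨1, one_mem _, 1, one_mem _, 1, one_mem _, by group⟩

theorem RootGens.pos_mul_big (R : RootGens D K Γ) (u g : Γ) (hu : u ∈ R.pos) (hg : g ∈ R.big) :
    u * g ∈ R.big := by
  obtain ⟨u', hu', n, hn, v, hv, rfl⟩ := hg
  exact ⟨u * u', mul_mem hu hu', n, hn, v, hv, by group⟩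

/-- `Ū = X̄_a Ū_a` -/
theorem RootGens.pos_decomp (R : RootGens D K Γ) (hD : D ∈ Seven) (i : ℕ) (hi : i < D.rank)
    (g : Γ) (hg : g ∈ R.pos) :
    ∃ c : K, ∃ u' ∈ R.setSub (posExcept D i), g = R.X (D.simple i) c * u' := by
  have hp := (checkUp_spec D i (chkUp_all D hD i hi)).1
  have hle : R.pos ≤ R.rootSub (D.simple i) ⊔ R.setSub (posExcept D i) := by
    unfold RootGens.pos
    conv_lhs => unfold RootGens.setSub
    rw [Subgroup.closure_le]
    rintro y ⟨s, t, hs, rfl⟩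
    by_cases hsa : s = D.simple i
    · apply Subgroup.mem_sup_left
      rw [hsa]
      exact Subgroup.subset_closure ⟨t, rfl⟩
    · apply Subgroup.mem_sup_right
      exact R.X_mem_setSub (posExcept D i) s ⟨hs, hsa⟩ t
  have hnorm : R.rootSub (D.simple i) ≤ Subgroup.normalizer (R.setSub (posExcept D i) : Set Γ) :=
    le_trans le_sup_left (R.rankOne_le_normalizer hD i hi)
  have hg' : g ∈ ((R.rootSub (D.simple i) ⊔ R.setSub (posExcept D i) : Subgroup Γ) : Set Γ) :=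
    hle hg
  rw [Subgroup.coe_mul_of_left_le_normalizer_right _ _ hnorm] at hg'
  obtain ⟨x, hx, u, hu, rfl⟩ := Set.mem_mul.1 hg'
  obtain ⟨t, rfl⟩ := (R.mem_rootSub _ hp.1 x).1 hx
  exact ⟨t, u, hu, rfl⟩

/-- `x_{-a}(c) = x_a(c⁻¹) n_a(-c⁻¹) x_a(c⁻¹)` -/
theorem RootGens.X_neg_eq (R : RootGens D K Γ) (a : ℕ) (ha : a < D.nroots) (c : K) : R.X (D.neg a) c = R.X a c⁻¹ * R.nbar a (-c⁻¹) * R.X a c⁻¹ := by
  rw [R.nbar_eq, inv_neg, inv_inv, neg_neg, R.X_neg a ha]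
  group

theorem RootGens.conj_mem_of_rankOne (R : RootGens D K Γ) (hD : D ∈ Seven) (i : ℕ)
    (hi : i < D.rank) (x : Γ) (hx : x ∈ R.rankOne (D.simple i)) (u : Γ)
    (hu : u ∈ R.setSub (posExcept D i)) : x * u * x⁻¹ ∈ R.setSub (posExcept D i) :=
  (Subgroup.mem_normalizer_iff.1 (R.rankOne_le_normalizer hD i hi hx) u).1 hu

/-- `n̄_a(t) Ū N̄ Ū ⊆ Ū N̄ Ū` -/
theorem BiModel.nbar_mul_big (B : BiModel D K Γ) (hD : D ∈ Seven) (i : ℕ) (hi : i < D.rank)
    (t : K) (ht : t ≠ 0) (g : Γ) (hg : g ∈ B.R.big) : B.R.nbar (D.simple i) t * g ∈ B.R.big := by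
  have hp := (checkUp_spec D i (chkUp_all D hD i hi)).1
  obtain ⟨hna, -, hnna⟩ := neg_lt D hD _ hp.1
  obtain ⟨u, hu, n, hn, v, hv, rfl⟩ := hg
  obtain ⟨c, u', hu', rfl⟩ := B.R.pos_decomp hD i hi u hu
  set nb := B.R.nbar (D.simple i) t with hnb
  set c₁ := cst D i t (D.simple i) * c with hc₁
  have e1 : nb * B.R.X (D.simple i) c * nb⁻¹ = B.R.X (D.neg (D.simple i)) c₁ :=
    B.nbar_conj_self hD i hi t ht c
  have hu'' : nb * u' * nb⁻¹ ∈ B.R.setSub (posExcept D i) :=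
    B.R.conj_mem_of_rankOne hD i hi nb (B.R.nbar_mem_rankOne _ t) u' hu'
  have hn' : nb * n ∈ B.R.nSub := mul_mem (B.R.nbar_mem_nSub i hi t ht) hn
  by_cases hc : c₁ = 0
  · rw [hc, B.R.X_zero _ hna] at e1
    refine ⟨nb * u' * nb⁻¹, B.R.setSub_posExcept_le i hu'', nb * n, hn', v, hv, ?_⟩
    have e2 : B.R.X (D.simple i) c = 1 := by
      have : B.R.X (D.simple i) c = nb⁻¹ * (nb * B.R.X (D.simple i) c * nb⁻¹) * nb := by group
      rw [this, e1]
      group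
    rw [e2]
    group
  · set Xn := B.R.X (D.neg (D.simple i)) c₁ with hXn
    have hu''' : Xn * (nb * u' * nb⁻¹) * Xn⁻¹ ∈ B.R.setSub (posExcept D i) :=
      B.R.conj_mem_of_rankOne hD i hi Xn (B.R.X_neg_mem_rankOne _ c₁) _ hu''
    obtain ⟨w', c', hact⟩ := B.exists_nActs hD (nb * n)⁻¹ (inv_mem hn')
    by_cases hpos : D.IsPosRoot (w' (D.neg (D.simple i)))
    · have hY := hact.conj _ hna c₁
      rw [inv_inv] at hY
      refine ⟨Xn * (nb * u' * nb⁻¹) * Xn⁻¹, B.R.setSub_posExcept_le i hu''', nb * n, hn',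
        B.R.X (w' (D.neg (D.simple i))) (c' (D.neg (D.simple i)) * c₁) * v,
        mul_mem (B.R.X_mem_setSub _ _ hpos _) hv, ?_⟩
      rw [← hY, ← hXn, ← e1]
      group
    · have hpos' : D.IsPosRoot (w' (D.simple i)) := by
        have h1 := hact.neg _ hp.1
        rw [h1] at hpos
        have h2 := pos_neg_of_not_pos D hD _ (neg_lt D hD _ (hact.lt _ hp.1)).1 hpos
        rwa [(neg_lt D hD _ (hact.lt _ hp.1)).2.2] at h2
      have hY := hact.conj _ hp.1 c₁⁻¹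
      rw [inv_inv] at hY
      have e2 : Xn = B.R.X (D.simple i) c₁⁻¹ * B.R.nbar (D.simple i) (-c₁⁻¹)
          * B.R.X (D.simple i) c₁⁻¹ := B.R.X_neg_eq _ hp.1 c₁
      have e2' : B.R.nbar (D.simple i) (-c₁⁻¹)
          = (B.R.X (D.simple i) c₁⁻¹)⁻¹ * Xn * (B.R.X (D.simple i) c₁⁻¹)⁻¹ := by
        rw [e2]
        group
      refine ⟨Xn * (nb * u' * nb⁻¹) * Xn⁻¹ * B.R.X (D.simple i) c₁⁻¹,
        mul_mem (B.R.setSub_posExcept_le i hu''') (B.R.X_mem_setSub _ _ hp _),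
        B.R.nbar (D.simple i) (-c₁⁻¹) * (nb * n),
        mul_mem (B.R.nbar_mem_nSub i hi _ (neg_ne_zero.2 (inv_ne_zero hc))) hn',
        B.R.X (w' (D.simple i)) (c' (D.simple i) * c₁⁻¹) * v,
        mul_mem (B.R.X_mem_setSub _ _ hpos' _) hv, ?_⟩
      rw [← hY, e2', ← e1]
      group

/-- `N̄ Ū N̄ Ū ⊆ Ū N̄ Ū` -/
theorem BiModel.nSub_mul_big (B : BiModel D K Γ) (hD : D ∈ Seven) (n : Γ) (hn : n ∈ B.R.nSub) :
    ∀ g ∈ B.R.big, n * g ∈ B.R.big := by
  unfold RootGens.nSub at hn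
  induction hn using Subgroup.closure_induction_left with
  | one =>
    intro g hg
    rwa [one_mul]
  | mul_left x hx y _ ih =>
    intro g hg
    obtain ⟨i, t, hi, ht, rfl⟩ := hx
    rw [mul_assoc]
    exact B.nbar_mul_big hD i hi t ht _ (ih g hg)
  | inv_mul_cancel x hx y _ ih =>
    intro g hg
    obtain ⟨i, t, hi, ht, rfl⟩ := hx
    have hp := (checkUp_spec D i (chkUp_all D hD i hi)).1
    rw [mul_assoc, B.R.nbar_inv hD _ hp.1]
    exact B.nbar_mul_big hD i hi (-t) (neg_ne_zero.2 ht) _ (ih g hg)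

/-- `X_r Ū N̄ Ū ⊆ Ū N̄ Ū` for every root `r` -/
theorem BiModel.X_mul_big (B : BiModel D K Γ) (hD : D ∈ Seven) (m : ℕ) :
    ∀ r, r < D.nroots → D.nroots ≤ r + m → ∀ (t : K), ∀ g ∈ B.R.big, B.R.X r t * g ∈ B.R.big := by
  induction m with
  | zero =>
    intro r hr hm
    omega
  | succ m ih =>
    intro r hr hm t g hg
    by_cases hpos : D.IsPosRoot r
    · exact B.R.pos_mul_big _ g (B.R.X_mem_setSub _ r hpos t) hg
    · obtain ⟨i, hi, hlt⟩ := checkLift_spec D (chkLift_all D hD) r hr hpos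
      have hr' := (reflectRoot_invol D hD i hi r hr).1
      have hone : (1 : K) ≠ 0 := one_ne_zero
      have hconj := B.nbar_conj_all hD i hi 1 hone r hr t
      set nb := B.R.nbar (D.simple i) 1 with hnb
      have hnbm : nb ∈ B.R.nSub := B.R.nbar_mem_nSub i hi 1 hone
      have e : B.R.X r t * g = nb⁻¹ * (B.R.X (D.reflectRoot i r) (cst D i 1 r * t) * (nb * g)) := by
        rw [← hconj]
        group
      rw [e]
      apply B.nSub_mul_big hD _ (inv_mem hnbm)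
      apply ih _ hr' (by omega)
      exact B.nSub_mul_big hD _ hnbm g hg

/-- `Γ = Ū N̄ Ū` -/
theorem BiModel.big_univ (B : BiModel D K Γ) (hD : D ∈ Seven) (g : Γ) : g ∈ B.R.big := by
  apply B.R.induction (p := fun g => g ∈ B.R.big) B.R.one_mem_big
  intro r t g hr hg
  exact B.X_mul_big hD D.nroots r hr (by omega) t g hg

end Cfsg.Agent.Lib.Helper5.StPres
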