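import Mathlib
import Cfsg.Agent.Lib.Helper5.StPres.Bruhat
import Cfsg.Agent.Lib.Helper5.ChevMonoN
import Cfsg.Agent.Lib.Helper5.ChevGen

set_option autoImplicit false

/-!
The kernel of the homomorphism from a group with Steinberg generators to the Chevalley group is
central and contained in `N̄`.
-/

namespace Cfsg.Agent.Lib.Helper5.StPres

open Cfsg Cfsg.Lie Cfsg.Agent.Lib.Helper5.ChevSym Cfsg.Agent.Lib.Helper5.ChevStruct

variable {D : ChevalleyDatum} {K : Type*} [Field K] {Γ : Type*} [Group Γ]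

theorem Model.π_pos_mem (M : Model D K Γ) (hD : D ∈ Seven) (g : Γ) (hg : g ∈ M.R.pos) :
    M.π g ∈ D.posUnipotent K := by
  unfold RootGens.pos RootGens.setSub at hg
  induction hg using Subgroup.closure_induction with
  | mem y hy =>
    obtain ⟨s, t, hs, rfl⟩ := hy
    have hs' : D.IsPosRoot s := hs
    rw [M.π_X' hD s t hs'.1]
    exact xGL_mem_pos D hD s hs' t
  | one => rw [map_one]; exact one_mem _
  | mul a b _ _ ha hb => rw [map_mul]; exact mul_mem ha hb
  | inv a _ ha => rw [map_inv]; exact inv_mem ha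

theorem Model.π_nSub_mem (M : Model D K Γ) (hD : D ∈ Seven) (g : Γ) (hg : g ∈ M.R.nSub) :
    M.π g ∈ D.monomialSubgroup K := by
  unfold RootGens.nSub at hg
  induction hg using Subgroup.closure_induction with
  | mem y hy =>
    obtain ⟨i, t, hi, ht, rfl⟩ := hy
    have hp := (checkUp_spec D i (chkUp_all D hD i hi)).1
    have e : M.π (M.R.nbar (D.simple i) t) = wordGL D hD (D.nWord (D.simple i) t) := by
      apply Units.ext
      rw [M.π_nbar hD _ hp.1, wordGL_val]
      rfl
    rw [e]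
    exact nGL_mem_monomial D hD _ hp.1 t ht
  | one => rw [map_one]; exact one_mem _
  | mul a b _ _ ha hb => rw [map_mul]; exact mul_mem ha hb
  | inv a _ ha => rw [map_inv]; exact inv_mem ha

/-- an element of `N̄` in the kernel is central -/
theorem BiModel.central_of_nSub_ker (B : BiModel D K Γ) (hD : D ∈ Seven) (n : Γ)
    (hn : n ∈ B.R.nSub) (hπ : B.π n = 1) : n ∈ Subgroup.center Γ := by
  obtain ⟨w, c, hact⟩ := B.exists_nActs hD n hn
  have hfix : ∀ s < D.nroots, ∀ u : K, n * B.R.X s u * n⁻¹ = B.R.X s u := by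
    intro s hs u
    have h1 := hact.conj s hs 1
    have h2 : ((B.π (n * B.R.X s 1 * n⁻¹) : GL D.Idx K) : Matrix D.Idx D.Idx K)
        = ((B.π (B.R.X (w s) (c s * 1)) : GL D.Idx K) : Matrix D.Idx D.Idx K) := by rw [h1]
    rw [map_mul, map_mul, map_inv, hπ, inv_one, mul_one, one_mul, B.π_X _ _ hs,
      B.π_X _ _ (hact.lt s hs)] at h2
    have hws := x_root_inj D hD s (w s) hs (hact.lt s hs) 1 (c s * 1) one_ne_zero h2
    rw [← hws] at h2
    have hcs := x_param_inj D hD s hs _ _ h2
    rw [hact.conj s hs u, ← hws]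
    rw [mul_one] at hcs
    rw [← hcs, one_mul]
  rw [Subgroup.mem_center_iff]
  apply B.R.induction (p := fun g => g * n = n * g)
  · rw [one_mul, mul_one]
  · intro r t g hr hg
    have h := hfix r hr t
    have e : n * B.R.X r t = B.R.X r t * n := by
      have : n * B.R.X r t = (n * B.R.X r t * n⁻¹) * n := by group
      rw [this, h]
    rw [mul_assoc, hg, ← mul_assoc, ← e, mul_assoc]

/-- an element of the kernel is a central element of `N̄` -/
theorem BiModel.ker_le (B : BiModel D K Γ) (hD : D ∈ Seven) (x : Γ) (hx : B.π x = 1) :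
    x ∈ B.R.nSub ∧ x ∈ Subgroup.center Γ := by
  obtain ⟨u, hu, n, hn, v, hv, rfl⟩ := B.big_univ hD x
  rw [map_mul, map_mul] at hx
  have hU1 := B.model.π_pos_mem hD u hu
  have hU2 := B.model.π_pos_mem hD v hv
  have hN := B.model.π_nSub_mem hD n hn
  have hn1 : B.π n = 1 := by
    have hU3 : B.π n ∈ D.posUnipotent K := by
      have e : B.π n = (B.π u)⁻¹ * (B.π v)⁻¹ := by
        have : B.π n = (B.π u)⁻¹ * (B.π u * B.π n * B.π v) * (B.π v)⁻¹ := by group
        rw [this, hx, mul_one]
      rw [e]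
      exact mul_mem (inv_mem hU1) (inv_mem hU2)
    have hmem : B.π n ∈ D.posUnipotent K ⊓ D.monomialSubgroup K := ⟨hU3, hN⟩
    rw [pos_inf_monomial D hD, Subgroup.mem_bot] at hmem
    exact hmem
  rw [hn1, mul_one] at hx
  have huv : u * v = 1 := by
    apply B.model.inj_on_pos hD _ _ (mul_mem hu hv) (one_mem _)
    show B.π (u * v) = B.π 1
    rw [map_mul, hx, map_one]
  have hc := B.central_of_nSub_ker hD n hn hn1
  have hv' : v = u⁻¹ := eq_inv_of_mul_eq_one_right huv
  have e : u * n * v = n := by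
    rw [hv', mul_assoc, ← (Subgroup.mem_center_iff.1 hc u⁻¹), ← mul_assoc, mul_inv_cancel, one_mul]
  rw [e]
  exact ⟨hn, hc⟩

theorem BiModel.ker_le_center (B : BiModel D K Γ) (hD : D ∈ Seven) :
    B.π.ker ≤ Subgroup.center Γ :=
  fun x hx => (B.ker_le hD x (MonoidHom.mem_ker.1 hx)).2

end Cfsg.Agent.Lib.Helper5.StPres
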