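import Mathlib
import Cfsg.Agent.Lib.Helper5.StPres.Ker
import Cfsg.Agent.Lib.Helper5.StPres.FromPres

set_option autoImplicit false

/-!
The group presented by (R1), (R2) maps onto the Chevalley group with central kernel.
-/

namespace Cfsg.Agent.Lib.Helper5.StPres

open Cfsg Cfsg.Lie Cfsg.Agent.Lib.Helper5.ChevSym Cfsg.Agent.Lib.Helper5.ChevStruct

variable {D : ChevalleyDatum} {K : Type*} [Field K] {Γ : Type*} [Group Γ]

/-- a group with Steinberg generators maps onto the Chevalley group, in two ways -/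
def RootGens.biModel (R : RootGens D K Γ) (hD : D ∈ Seven) (θ θ' : Γ →* ↥(D.group K))
    (hθ : ∀ (r : ℕ) (t : K), r < D.nroots → θ (R.X r t) = xG D hD r t)
    (hθ' : ∀ (r : ℕ) (t : K), r < D.nroots → θ' (R.X r t) = xG D hD (D.neg r) (-t)) :
    BiModel D K Γ where
  R := R
  π := (D.group K).subtype.comp θ
  π_X := by
    intro r t hr
    show (((θ (R.X r t) : ↥(D.group K)) : GL D.Idx K) : Matrix D.Idx D.Idx K) = _
    rw [hθ r t hr, xG_val]
  π' := (D.group K).subtype.comp θ'
  π'_X := by
    intro r t hr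
    show (((θ' (R.X r t) : ↥(D.group K)) : GL D.Idx K) : Matrix D.Idx D.Idx K) = _
    rw [hθ' r t hr, xG_val]

/-- a homomorphism onto the Chevalley group matching the generators is surjective -/
theorem surjective_of_gens (R : RootGens D K Γ) (hD : D ∈ Seven) (θ : Γ →* ↥(D.group K))
    (hθ : ∀ (r : ℕ) (t : K), r < D.nroots → θ (R.X r t) = xG D hD r t) :
    Function.Surjective θ := by
  rw [← MonoidHom.range_eq_top, eq_top_iff, ← (gGens D hD K).gen, Subgroup.closure_le]
  rintro g ⟨r, t, hr, rfl⟩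
  exact ⟨R.X r t, hθ r t hr⟩

theorem cover_main (D : ChevalleyDatum) (hD : D ∈ Seven) (K : Type*) [Field K] :
    ∃ θ : D.SteinbergCover K →* ↥(D.group K), Function.Surjective θ ∧
      θ.ker ≤ Subgroup.center (D.SteinbergCover K) ∧
      ∀ (r : ℕ) (t : K), r < D.nroots →
        ((θ (D.scGen K r t) : GL D.Idx K) : Matrix D.Idx D.Idx K) = D.x K r t := by
  set θ := (gGens D hD K).fromCover hD with hθdef
  set θ' := ((gGens D hD K).opp hD).fromCover hD with hθ'def
  have hθ : ∀ (r : ℕ) (t : K), r < D.nroots → θ ((coverGens D K).X r t) = xG D hD r t :=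
    fun r t hr => (gGens D hD K).fromCover_scGen hD r hr t
  have hθ' : ∀ (r : ℕ) (t : K), r < D.nroots →
      θ' ((coverGens D K).X r t) = xG D hD (D.neg r) (-t) :=
    fun r t hr => ((gGens D hD K).opp hD).fromCover_scGen hD r hr t
  refine ⟨θ, surjective_of_gens (coverGens D K) hD θ hθ, ?_, ?_⟩
  · intro x hx
    apply ((coverGens D K).biModel hD θ θ' hθ hθ').ker_le_center hD
    rw [MonoidHom.mem_ker] at hx ⊢
    show (D.group K).subtype (θ x) = 1
    rw [hx, map_one]
  · intro r t hr
    have := hθ r t hr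
    show (((θ ((coverGens D K).X r t) : ↥(D.group K)) : GL D.Idx K) : Matrix D.Idx D.Idx K) = _
    rw [this, xG_val]

end Cfsg.Agent.Lib.Helper5.StPres
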