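import Mathlib

set_option autoImplicit false

/-!
Steinberg's lemma on the symbols `f(t, u) = h(t) h(u) h(tu)⁻¹` of a group generated by two
one-parameter subgroups `x(t)`, `y(t)` with `n(t) = x(t) y(-t⁻¹) x(t)` acting as in `SL₂`: if the
symbols are central and the field is finite, they are trivial.
-/

namespace Cfsg.Agent.Lib.Helper5.StPres

/-- two one-parameter subgroups behaving as the root subgroups of `SL₂` up to the centre -/
structure SL2Like (K : Type*) [Field K] (Γ : Type*) [Group Γ] where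
  x : K → Γ
  y : K → Γ
  x_add : ∀ t u : K, x t * x u = x (t + u)
  y_add : ∀ t u : K, y t * y u = y (t + u)
  conj_x : ∀ t u : K, t ≠ 0 →
    (x t * y (-t⁻¹) * x t) * x u * (x t * y (-t⁻¹) * x t)⁻¹ = y (-(t⁻¹ * t⁻¹) * u)
  conj_y : ∀ t u : K, t ≠ 0 →
    (x t * y (-t⁻¹) * x t) * y u * (x t * y (-t⁻¹) * x t)⁻¹ = x (-(t * t) * u)
  central : ∀ t u : K, t ≠ 0 → u ≠ 0 →
    (x t * y (-t⁻¹) * x t * (x (-1) * y (-(-1 : K)⁻¹) * x (-1)))
      * (x u * y (-u⁻¹) * x u * (x (-1) * y (-(-1 : K)⁻¹) * x (-1)))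
      * (x (t * u) * y (-(t * u)⁻¹) * x (t * u) * (x (-1) * y (-(-1 : K)⁻¹) * x (-1)))⁻¹
      ∈ Subgroup.center Γ

namespace SL2Like

variable {K : Type*} [Field K] {Γ : Type*} [Group Γ] (S : SL2Like K Γ)

/-- `n(t)` -/
def n (t : K) : Γ := S.x t * S.y (-t⁻¹) * S.x t

/-- `h(t)` -/
def h (t : K) : Γ := S.n t * S.n (-1)

theorem x_zero : S.x 0 = 1 := by
  have := S.x_add 0 0
  rw [add_zero] at this
  exact mul_eq_left.1 this |>.symm ▸ rfl

theorem y_zero : S.y 0 = 1 := by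
  have := S.y_add 0 0
  rw [add_zero] at this
  exact mul_eq_left.1 this |>.symm ▸ rfl

theorem x_neg (t : K) : S.x (-t) = (S.x t)⁻¹ := by
  rw [eq_inv_iff_mul_eq_one, S.x_add, neg_add_cancel, S.x_zero]

theorem y_neg (t : K) : S.y (-t) = (S.y t)⁻¹ := by
  rw [eq_inv_iff_mul_eq_one, S.y_add, neg_add_cancel, S.y_zero]

theorem n_mul_neg (t : K) : S.n t * S.n (-t) = 1 := by
  unfold n
  rw [inv_neg, neg_neg, S.x_neg, S.y_neg t⁻¹]
  group

theorem n_inv (t : K) : (S.n t)⁻¹ = S.n (-t) :=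
  inv_eq_of_mul_eq_one_right (S.n_mul_neg t)

theorem n_x (t u : K) (ht : t ≠ 0) : S.n t * S.x u = S.y (-(t⁻¹ * t⁻¹) * u) * S.n t := by
  have := S.conj_x t u ht
  rw [← this]
  unfold n
  group

theorem n_y (t u : K) (ht : t ≠ 0) : S.n t * S.y u = S.x (-(t * t) * u) * S.n t := by
  have := S.conj_y t u ht
  rw [← this]
  unfold n
  group

theorem x_n (t u : K) (ht : t ≠ 0) : S.x u * S.n t = S.n t * S.y (-(t⁻¹ * t⁻¹) * u) := by
  have h1 := S.n_x (-t) u (neg_ne_zero.2 ht)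
  rw [← S.n_inv, inv_neg, neg_mul_neg] at h1
  have : S.x u * S.n t = S.n t * ((S.n t)⁻¹ * S.x u) * S.n t := by group
  rw [this, h1]
  group

theorem y_n (t u : K) (ht : t ≠ 0) : S.y u * S.n t = S.n t * S.x (-(t * t) * u) := by
  have h1 := S.n_y (-t) u (neg_ne_zero.2 ht)
  rw [← S.n_inv, neg_mul_neg] at h1
  have : S.y u * S.n t = S.n t * ((S.n t)⁻¹ * S.y u) * S.n t := by group
  rw [this, h1]
  group

/-- `y(-t⁻¹) x(t) y(-t⁻¹) = n(t)` -/
theorem yxy (t : K) (ht : t ≠ 0) : S.y (-t⁻¹) * S.x t * S.y (-t⁻¹) = S.n t := by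
  have h1 := S.n_y t (-t⁻¹) ht
  have e : -(t * t) * -t⁻¹ = t := by field_simp
  rw [e] at h1
  -- `n y = x n`
  have h2 : S.n t = S.x t * S.y (-t⁻¹) * S.x t := rfl
  have h3 : S.y (-t⁻¹) * S.x t * S.y (-t⁻¹) = (S.x t)⁻¹ * (S.n t * S.y (-t⁻¹)) := by
    rw [h2]
    group
  rw [h3, h1]
  group

theorem h_one : S.h 1 = 1 := S.n_mul_neg 1

theorem n_eq_h_mul (t : K) : S.n t = S.h t * S.n 1 := by
  have := S.n_mul_neg (-1 : K)
  rw [neg_neg] at this
  unfold h
  rw [mul_assoc, this, mul_one]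

theorem h_x (t u : K) (ht : t ≠ 0) : S.h t * S.x u = S.x (t * t * u) * S.h t := by
  unfold h
  have hm1 : (-1 : K) ≠ 0 := by simp
  rw [mul_assoc, S.n_x (-1) u hm1, ← mul_assoc, S.n_y t _ ht, mul_assoc]
  congr 2
  field_simp

theorem h_y (t u : K) (ht : t ≠ 0) : S.h t * S.y u = S.y (t⁻¹ * t⁻¹ * u) * S.h t := by
  unfold h
  have hm1 : (-1 : K) ≠ 0 := by simp
  rw [mul_assoc, S.n_y (-1) u hm1, ← mul_assoc, S.n_x t _ ht, mul_assoc]
  congr 2
  field_simp

theorem h_n (t u : K) (ht : t ≠ 0) (hu : u ≠ 0) : S.h t * S.n u = S.n (t * t * u) * S.h t := by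
  have e1 : S.n u = S.x u * S.y (-u⁻¹) * S.x u := rfl
  have e2 : S.n (t * t * u) = S.x (t * t * u) * S.y (-(t * t * u)⁻¹) * S.x (t * t * u) := rfl
  rw [e1, e2, ← mul_assoc, ← mul_assoc, S.h_x t u ht, mul_assoc (S.x (t * t * u)), S.h_y t _ ht,
    mul_assoc (S.x (t * t * u)), mul_assoc (S.y _), S.h_x t u ht]
  have e3 : t⁻¹ * t⁻¹ * -u⁻¹ = -(t * t * u)⁻¹ := by
    field_simp
  rw [e3]
  group

/-- `h(t) h(u) h(t)⁻¹ = h(t² u) h(t²)⁻¹` -/
theorem h_conj_h (t u : K) (ht : t ≠ 0) (hu : u ≠ 0) :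
    S.h t * S.h u * (S.h t)⁻¹ = S.h (t * t * u) * (S.h (t * t))⁻¹ := by
  have hm1 : (-1 : K) ≠ 0 := by simp
  have h1 := S.h_n t u ht hu
  have h2 := S.h_n t (-1) ht hm1
  have e : S.h t * S.h u * (S.h t)⁻¹
      = (S.h t * S.n u) * (S.h t)⁻¹ * ((S.h t * S.n (-1)) * (S.h t)⁻¹) := by
    unfold h
    group
  rw [e, h1, h2, mul_neg_one, ← S.n_inv, S.n_eq_h_mul (t * t * u), S.n_eq_h_mul (t * t)]
  group

/-- the symbol -/
def f (t u : K) : Γ := S.h t * S.h u * (S.h (t * u))⁻¹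

theorem f_central (t u : K) (ht : t ≠ 0) (hu : u ≠ 0) : S.f t u ∈ Subgroup.center Γ :=
  S.central t u ht hu

theorem f_one_right (t : K) : S.f t 1 = 1 := by
  unfold f
  rw [S.h_one, mul_one, mul_one, mul_inv_cancel]

theorem f_one_left (t : K) : S.f 1 t = 1 := by
  unfold f
  rw [S.h_one, one_mul, one_mul, mul_inv_cancel]

/-- `f(t, u² v) = f(t, v) [h(t), h(u)]` -/
theorem f_sq_mul (t u v : K) (ht : t ≠ 0) (hu : u ≠ 0) (hv : v ≠ 0) :
    S.f t (u * u * v) = S.f t v * (S.h t * S.h u * (S.h t)⁻¹ * (S.h u)⁻¹) := by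
  have h1 := S.h_conj_h u v hu hv
  have h2 := S.h_conj_h u (t * v) hu (mul_ne_zero ht hv)
  have e1 : S.h (u * u * v) = S.h u * S.h v * (S.h u)⁻¹ * S.h (u * u) := by
    rw [h1]; group
  have e2 : S.h (t * (u * u * v)) = S.h u * S.h (t * v) * (S.h u)⁻¹ * S.h (u * u) := by
    have : t * (u * u * v) = u * u * (t * v) := by ring
    rw [this, h2]; group
  have hc := Subgroup.mem_center_iff.1 (S.f_central t v ht hv)
  have e3 : S.h v * (S.h (t * v))⁻¹ = (S.h t)⁻¹ * S.f t v := by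
    unfold f; group
  have e4 : S.f t (u * u * v) = S.h t * S.h u * (S.h v * (S.h (t * v))⁻¹) * (S.h u)⁻¹ := by
    unfold f
    rw [e1, e2]
    group
  rw [e4, e3]
  have := hc (S.h t * S.h u * (S.h t)⁻¹)
  calc S.h t * S.h u * ((S.h t)⁻¹ * S.f t v) * (S.h u)⁻¹
      = (S.h t * S.h u * (S.h t)⁻¹ * S.f t v) * (S.h u)⁻¹ := by group
    _ = (S.f t v * (S.h t * S.h u * (S.h t)⁻¹)) * (S.h u)⁻¹ := by rw [this]
    _ = _ := by group

theorem f_sq (t u : K) (ht : t ≠ 0) (hu : u ≠ 0) :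
    S.f t (u * u) = S.h t * S.h u * (S.h t)⁻¹ * (S.h u)⁻¹ := by
  have := S.f_sq_mul t u 1 ht hu one_ne_zero
  rw [mul_one, S.f_one_right, one_mul] at this
  exact this

/-- `n(t) n(-1) n(u) = n(tu)` when `t + u = 1` -/
theorem n_mul_n_mul_n (t u : K) (ht : t ≠ 0) (hu : u ≠ 0) (h : t + u = 1) :
    S.n t * S.n (-1) * S.n u = S.n (t * u) := by
  have hm1 : (-1 : K) ≠ 0 := by simp
  have htu : t * u ≠ 0 := mul_ne_zero ht hu
  -- P1
  have P1 : S.n t * S.n (-1) = S.y (-t⁻¹) * S.x (-u) * S.y 1 * S.x (u * t⁻¹) := by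
    have a1 : S.y (-t⁻¹) * S.x (-u) * S.y 1
        = (S.y (-t⁻¹) * S.x t * S.y (-t⁻¹)) * S.y (t⁻¹ - 1)
          * (S.y 1 * S.x (-1) * S.y 1) := by
      have hx : S.x (-u) = S.x t * S.x (-1) := by
        rw [S.x_add]; congr 1; rw [← h]; ring
      have hy : S.y (t⁻¹ - 1) = (S.y (-t⁻¹))⁻¹ * (S.y 1)⁻¹ := by
        rw [← S.y_neg, ← S.y_neg, S.y_add]; congr 1; ring
      rw [hx, hy]
      group
    have a2 : S.y 1 * S.x (-1) * S.y 1 = S.n (-1) := by
      have := S.yxy (-1) hm1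
      rw [inv_neg, inv_one, neg_neg] at this
      exact this
    rw [S.yxy t ht, a2] at a1
    have a3 := S.y_n (-1) (t⁻¹ - 1) hm1
    have a4 : S.n t * S.n (-1) = S.n t * (S.y (t⁻¹ - 1) * S.n (-1)) * (S.x (u * t⁻¹)) := by
      rw [a3]
      have : -(-1 * -1 : K) * (t⁻¹ - 1) = -(u * t⁻¹) := by
        have : u = 1 - t := by rw [← h]; ring
        rw [this]; field_simp
      rw [this, S.x_neg]
      group
    rw [a4, a1]
    group
  -- P2, P3, P4
  have P2 : S.x (u * t⁻¹) * S.n u = S.n u * S.y (-(t * u)⁻¹) := by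
    rw [S.x_n u _ hu]
    congr 2
    field_simp
  have P3 : S.y 1 * S.n u = S.n u * S.x (-(u * u)) := by
    rw [S.y_n u _ hu, mul_one]
  have P4 : S.x (-u) * S.n u = S.y (-u⁻¹) * S.x u := by
    unfold n
    rw [S.x_neg]
    group
  calc S.n t * S.n (-1) * S.n u
      = S.y (-t⁻¹) * S.x (-u) * S.y 1 * (S.x (u * t⁻¹) * S.n u) := by rw [P1]; group
    _ = S.y (-t⁻¹) * S.x (-u) * (S.y 1 * S.n u) * S.y (-(t * u)⁻¹) := by rw [P2]; group
    _ = S.y (-t⁻¹) * (S.x (-u) * S.n u) * S.x (-(u * u)) * S.y (-(t * u)⁻¹) := by rw [P3]; group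
    _ = (S.y (-t⁻¹) * S.y (-u⁻¹)) * (S.x u * S.x (-(u * u))) * S.y (-(t * u)⁻¹) := by
        rw [P4]; group
    _ = S.y (-(t * u)⁻¹) * S.x (t * u) * S.y (-(t * u)⁻¹) := by
        rw [S.y_add, S.x_add]
        have e1 : -t⁻¹ + -u⁻¹ = -(t * u)⁻¹ := by
          field_simp
          rw [← h]; ring
        have e2 : u + -(u * u) = t * u := by
          have : t = 1 - u := by rw [← h]; ring
          rw [this]; ring
        rw [e1, e2]
    _ = S.n (t * u) := S.yxy _ htu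

/-- `f(t, u) = 1` when `t + u = 1` -/
theorem f_of_add_eq_one (t u : K) (ht : t ≠ 0) (hu : u ≠ 0) (h : t + u = 1) : S.f t u = 1 := by
  unfold f
  have : S.h t * S.h u = S.h (t * u) := by
    unfold SL2Like.h
    rw [← S.n_mul_n_mul_n t u ht hu h]
    group
  rw [this, mul_inv_cancel]

end SL2Like

/-! ### Finite fields -/

/-- in a finite field of odd characteristic the quotient of two non-squares is a square -/
theorem exists_sq_of_not_isSquare {K : Type*} [Field K] [Finite K] (a b : K) (ha : ¬ IsSquare a)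
    (hb : ¬ IsSquare b) : ∃ s : K, s ≠ 0 ∧ a = b * (s * s) := by
  classical
  have := Fintype.ofFinite K
  have ha0 : a ≠ 0 := by rintro rfl; exact ha IsSquare.zero
  have hb0 : b ≠ 0 := by rintro rfl; exact hb IsSquare.zero
  have h1 := quadraticChar_neg_one_iff_not_isSquare.2 ha
  have h2 := quadraticChar_neg_one_iff_not_isSquare.2 hb
  have h3 : quadraticChar K (a * b) = 1 := by rw [map_mul, h1, h2]; norm_num
  obtain ⟨r, hr⟩ := (quadraticChar_one_iff_isSquare (mul_ne_zero ha0 hb0)).1 h3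
  have hr0 : r ≠ 0 := by
    rintro rfl
    rw [mul_zero] at hr
    exact mul_ne_zero ha0 hb0 hr
  refine ⟨r / b, div_ne_zero hr0 hb0, ?_⟩
  field_simp
  rw [pow_two, ← hr]

/-- in a finite field of odd characteristic there is a non-square `t` with `1 - t` a non-square -/
theorem exists_not_isSquare_pair {K : Type*} [Field K] [Finite K] (hK : ringChar K ≠ 2) :
    ∃ t : K, ¬ IsSquare t ∧ ¬ IsSquare (1 - t) := by
  classical
  have := Fintype.ofFinite K
  by_contra hcon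
  push Not at hcon
  obtain ⟨ν, hν⟩ := FiniteField.exists_nonsquare hK
  have hν0 : ν ≠ 0 := by rintro rfl; exact hν IsSquare.zero
  set NS : Finset K := Finset.univ.filter fun t => ¬ IsSquare t with hNS
  set SQ1 : Finset K := Finset.univ.filter fun t => IsSquare t ∧ t ≠ 0 ∧ t ≠ 1 with hSQ1
  have h1 : NS.card ≤ SQ1.card := by
    apply Finset.card_le_card_of_injOn (fun t => 1 - t)
    · intro t ht
      have ht' : ¬ IsSquare t := (Finset.mem_filter.1 ht).2
      rw [Finset.mem_coe, hSQ1, Finset.mem_filter]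
      refine ⟨Finset.mem_univ _, hcon t ht', ?_, ?_⟩
      · intro e
        apply ht'
        have e' : 1 - t = 0 := e
        have : t = 1 := (sub_eq_zero.1 e').symm
        rw [this]
        exact IsSquare.one
      · intro e
        apply ht'
        have e' : 1 - t = 1 := e
        have : t = 0 := sub_eq_self.1 e'
        rw [this]
        exact IsSquare.zero
    · intro a _ b _ hab
      simpa using hab
  have h2 : (insert 1 SQ1).card ≤ NS.card := by
    apply Finset.card_le_card_of_injOn (fun t => ν * t)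
    · intro t ht
      rw [Finset.mem_coe, Finset.mem_insert] at ht
      rw [Finset.mem_coe, hNS, Finset.mem_filter]
      refine ⟨Finset.mem_univ _, ?_⟩
      have hsq : IsSquare t ∧ t ≠ 0 := by
        rcases ht with rfl | ht
        · exact ⟨IsSquare.one, one_ne_zero⟩
        · have := (Finset.mem_filter.1 ht).2
          exact ⟨this.1, this.2.1⟩
      obtain ⟨⟨s, hs⟩, ht0⟩ := hsq
      rintro ⟨r, hr⟩
      apply hν
      have hs0 : s ≠ 0 := by
        rintro rfl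
        rw [mul_zero] at hs
        exact ht0 hs
      refine ⟨r / s, ?_⟩
      rw [hs] at hr
      have hr' : ν * (s * s) = r * r := hr
      field_simp
      rw [pow_two, pow_two, hr']
    · intro a _ b _ hab
      exact mul_left_cancel₀ hν0 hab
  have h3 : (1 : K) ∉ SQ1 := by
    rw [hSQ1, Finset.mem_filter]
    rintro ⟨-, -, -, h⟩
    exact h rfl
  rw [Finset.card_insert_of_notMem h3] at h2
  omega

namespace SL2Like

variable {K : Type*} [Field K] {Γ : Type*} [Group Γ] (S : SL2Like K Γ)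

theorem h_mul (t u : K) : S.h (t * u) = (S.f t u)⁻¹ * (S.h t * S.h u) := by
  unfold f
  group

/-- `h(w^m) ∈ h(w)^m Z` -/
theorem h_pow_form (w : K) (hw : w ≠ 0) (m : ℕ) :
    ∃ z ∈ Subgroup.center Γ, S.h (w ^ m) = S.h w ^ m * z := by
  induction m with
  | zero => exact ⟨1, one_mem _, by rw [pow_zero, pow_zero, S.h_one, mul_one]⟩
  | succ m ih =>
    obtain ⟨z, hz, e⟩ := ih
    have hc := S.f_central (w ^ m) w (pow_ne_zero _ hw) hw
    refine ⟨z * (S.f (w ^ m) w)⁻¹, mul_mem hz (inv_mem hc), ?_⟩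
    rw [pow_succ, S.h_mul, e, pow_succ]
    have h1 := Subgroup.mem_center_iff.1 (inv_mem hc)
    have h2 := Subgroup.mem_center_iff.1 hz
    rw [← h1 (S.h w ^ m * z * S.h w), mul_assoc (S.h w ^ m) z, ← h2 (S.h w), ← mul_assoc,
      mul_assoc (S.h w ^ m * S.h w)]

variable [Finite K]

/-- over a finite field the `h(t)` commute -/
theorem h_commute (t u : K) (ht : t ≠ 0) (hu : u ≠ 0) : S.h t * S.h u = S.h u * S.h t := by
  obtain ⟨w, hw⟩ := IsCyclic.exists_monoid_generator (α := Kˣ)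
  obtain ⟨m, hm⟩ := (Submonoid.mem_powers_iff _ _).1 (hw (Units.mk0 t ht))
  obtain ⟨k, hk⟩ := (Submonoid.mem_powers_iff _ _).1 (hw (Units.mk0 u hu))
  have e1 : t = (w : K) ^ m := by
    have := congrArg Units.val hm
    rw [Units.val_pow_eq_pow_val, Units.val_mk0] at this
    exact this.symm
  have e2 : u = (w : K) ^ k := by
    have := congrArg Units.val hk
    rw [Units.val_pow_eq_pow_val, Units.val_mk0] at this
    exact this.symm
  obtain ⟨z, hz, f1⟩ := S.h_pow_form (w : K) (Units.ne_zero w) m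
  obtain ⟨z', hz', f2⟩ := S.h_pow_form (w : K) (Units.ne_zero w) k
  rw [e1, e2, f1, f2]
  have h1 := Subgroup.mem_center_iff.1 hz
  have h2 := Subgroup.mem_center_iff.1 hz'
  calc S.h ↑w ^ m * z * (S.h ↑w ^ k * z')
      = S.h ↑w ^ m * (z * (S.h ↑w ^ k * z')) := by group
    _ = S.h ↑w ^ m * ((S.h ↑w ^ k * z') * z) := by rw [h1]
    _ = (S.h ↑w ^ m * S.h ↑w ^ k) * (z' * z) := by group
    _ = (S.h ↑w ^ k * S.h ↑w ^ m) * (z' * z) := by rw [← pow_add, ← pow_add, add_comm]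
    _ = S.h ↑w ^ k * (S.h ↑w ^ m * z') * z := by group
    _ = S.h ↑w ^ k * (z' * S.h ↑w ^ m) * z := by rw [h2]
    _ = _ := by group

theorem f_symm (t u : K) (ht : t ≠ 0) (hu : u ≠ 0) : S.f t u = S.f u t := by
  unfold f
  rw [S.h_commute t u ht hu, mul_comm t u]

theorem f_sq_eq_one (t u : K) (ht : t ≠ 0) (hu : u ≠ 0) : S.f t (u * u) = 1 := by
  rw [S.f_sq t u ht hu, S.h_commute t u ht hu]
  group

theorem f_sq_mul_eq (t u v : K) (ht : t ≠ 0) (hu : u ≠ 0) (hv : v ≠ 0) :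
    S.f t (v * (u * u)) = S.f t v := by
  have := S.f_sq_mul t u v ht hu hv
  rw [S.h_commute t u ht hu] at this
  rw [mul_comm v, this]
  group

/-- over a finite field the symbols are trivial -/
theorem f_eq_one (t u : K) (ht : t ≠ 0) (hu : u ≠ 0) : S.f t u = 1 := by
  by_cases hK : ringChar K = 2
  · obtain ⟨s, rfl⟩ := FiniteField.isSquare_of_char_two hK u
    have hs : s ≠ 0 := by
      rintro rfl
      rw [mul_zero] at hu
      exact hu rfl
    exact S.f_sq_eq_one t s ht hs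
  · by_cases h1 : IsSquare u
    · obtain ⟨s, rfl⟩ := h1
      have hs : s ≠ 0 := by
        rintro rfl
        rw [mul_zero] at hu
        exact hu rfl
      exact S.f_sq_eq_one t s ht hs
    · by_cases h2 : IsSquare t
      · obtain ⟨s, rfl⟩ := h2
        have hs : s ≠ 0 := by
          rintro rfl
          rw [mul_zero] at ht
          exact ht rfl
        rw [S.f_symm _ _ ht hu]
        exact S.f_sq_eq_one u s hu hs
      · obtain ⟨t₀, ht₀, hu₀⟩ := exists_not_isSquare_pair hK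
        have ht₀0 : t₀ ≠ 0 := by rintro rfl; exact ht₀ IsSquare.zero
        have hu₀0 : 1 - t₀ ≠ 0 := by intro e; rw [e] at hu₀; exact hu₀ IsSquare.zero
        obtain ⟨s, hs, rfl⟩ := exists_sq_of_not_isSquare t t₀ h2 ht₀
        obtain ⟨r, hr, rfl⟩ := exists_sq_of_not_isSquare u (1 - t₀) h1 hu₀
        rw [S.f_sq_mul_eq _ r _ ht hr hu₀0, S.f_symm _ _ ht hu₀0,
          S.f_sq_mul_eq _ s _ hu₀0 hs ht₀0, S.f_symm _ _ hu₀0 ht₀0]
        exact S.f_of_add_eq_one t₀ (1 - t₀) ht₀0 hu₀0 (by ring)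

/-- over a finite field `h` is multiplicative -/
theorem h_mul_h (t u : K) (ht : t ≠ 0) (hu : u ≠ 0) : S.h t * S.h u = S.h (t * u) := by
  have := S.f_eq_one t u ht hu
  unfold f at this
  rwa [mul_inv_eq_one] at this

end SL2Like

end Cfsg.Agent.Lib.Helper5.StPres
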