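import Mathlib
import Cfsg.Agent.Lib.Helper5.StPres.FromPres
import Cfsg.Agent.Lib.Helper5.StPres.NAct
import Cfsg.Agent.Lib.Helper5.ChevRankOne

set_option autoImplicit false

/-!
The relation (R3) `h_r(t₁) h_r(t₂) = h_r(t₁ t₂)` in the Chevalley group, and its transfer to the
opposite generators.
-/

namespace Cfsg.Agent.Lib.Helper5.StPres

open Cfsg Cfsg.Lie Cfsg.Agent.Lib.Helper5.ChevSym Cfsg.Agent.Lib.Helper5.ChevStruct
  Cfsg.Agent.Lib.Helper5.RankOneHom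

variable {D : ChevalleyDatum} {K : Type*} [Field K] {Γ : Type*} [Group Γ]

theorem sl2_h (t : K) (ht : t ≠ 0) :
    uu t * ll (-t⁻¹) * uu t * (uu (-1) * ll (-(-1 : K)⁻¹) * uu (-1)) = dd t ht := by
  apply Subtype.ext
  have h : t⁻¹ * t = 1 := inv_mul_cancel₀ ht
  have h' : t * t⁻¹ = 1 := mul_inv_cancel₀ ht
  show (!![1, t; 0, 1] * !![1, 0; -t⁻¹, 1] * !![1, t; 0, 1]
      * (!![1, -1; 0, 1] * !![1, 0; -(-1 : K)⁻¹, 1] * !![1, -1; 0, 1]) : Matrix (Fin 2) (Fin 2) K)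
    = !![t, 0; 0, t⁻¹]
  rw [Matrix.mul_fin_two, Matrix.mul_fin_two, Matrix.mul_fin_two, Matrix.mul_fin_two,
    Matrix.mul_fin_two]
  congr 1
  simp only [mul_one, one_mul, mul_zero, add_zero, zero_add, mul_neg, neg_mul, h, h', inv_neg,
    inv_one, neg_neg]
  simp

theorem dd_mul_dd (a b : K) (ha : a ≠ 0) (hb : b ≠ 0) :
    dd a ha * dd b hb = dd (a * b) (mul_ne_zero ha hb) := by
  apply Subtype.ext
  show (!![a, 0; 0, a⁻¹] * !![b, 0; 0, b⁻¹] : Matrix (Fin 2) (Fin 2) K) = !![a * b, 0; 0, (a * b)⁻¹]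
  rw [Matrix.mul_fin_two]
  congr 1
  simp only [mul_zero, add_zero, zero_mul, zero_add, mul_inv]

/-- `h̄_r(t)` as a product -/
theorem RootGens.hbar_eq (R : RootGens D K Γ) (a : ℕ) (t : K) :
    R.hbar a t = R.nbar a t * R.nbar a (-1) := by
  unfold RootGens.hbar RootGens.nbar ChevalleyDatum.hWord
  rw [R.word_append]

/-- (R3) in the Chevalley group -/
theorem gGens_hbar_mul (D : ChevalleyDatum) (hD : D ∈ Seven) (r : ℕ) (t₁ t₂ : K)
    (hr : r < D.nroots) (h1 : t₁ ≠ 0) (h2 : t₂ ≠ 0) :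
    (gGens D hD K).hbar r t₁ * (gGens D hD K).hbar r t₂ = (gGens D hD K).hbar r (t₁ * t₂) := by
  obtain ⟨-, φ, hφ1, hφ2⟩ := exists_sl2_hom (F := K) D hD r hr
  have key : ∀ (t : K) (ht : t ≠ 0),
      (((gGens D hD K).hbar r t : ↥(D.group K)) : GL D.Idx K) = φ (dd t ht) := by
    intro t ht
    rw [RootGens.hbar_eq, RootGens.nbar_eq, RootGens.nbar_eq, ← sl2_h t ht]
    simp only [map_mul, hφ1, hφ2]
    rfl
  apply Subtype.ext
  rw [Subgroup.coe_mul, key t₁ h1, key t₂ h2, key (t₁ * t₂) (mul_ne_zero h1 h2), ← map_mul,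
    dd_mul_dd]

/-- (R3) for the opposite generators follows from (R3) -/
theorem RootGens.opp_hbar_mul (R : RootGens D K Γ) (hD : D ∈ Seven)
    (hR3 : ∀ (r : ℕ) (t₁ t₂ : K), r < D.nroots → t₁ ≠ 0 → t₂ ≠ 0 →
      R.hbar r t₁ * R.hbar r t₂ = R.hbar r (t₁ * t₂)) :
    ∀ (r : ℕ) (t₁ t₂ : K), r < D.nroots → t₁ ≠ 0 → t₂ ≠ 0 →
      (R.opp hD).hbar r t₁ * (R.opp hD).hbar r t₂ = (R.opp hD).hbar r (t₁ * t₂) := by
  intro r t₁ t₂ hr h1 h2
  obtain ⟨hnr, -, hnnr⟩ := neg_lt D hD r hr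
  have hm1 : (-1 : K) ≠ 0 := by simp
  have key : ∀ t : K, t ≠ 0 → (R.opp hD).hbar r t = R.hbar (D.neg r) t := by
    intro t ht
    have e1 : ∀ v : K, (R.opp hD).nbar r v = R.nbar (D.neg r) (-v) := by
      intro v
      have := R.nbar_opp hD (D.neg r) hnr (-v)
      rw [hnnr, neg_neg] at this
      exact this
    have e2 : R.hbar (D.neg r) (-t) = R.hbar (D.neg r) t * R.hbar (D.neg r) (-1) := by
      rw [hR3 _ t (-1) hnr ht hm1, mul_neg_one]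
    rw [RootGens.hbar_eq, e1, e1, neg_neg]
    have e3 : R.nbar (D.neg r) (-t) = R.hbar (D.neg r) (-t) * (R.nbar (D.neg r) (-1))⁻¹ := by
      rw [RootGens.hbar_eq]
      group
    have e4 : R.hbar (D.neg r) (-1) = R.nbar (D.neg r) (-1) * R.nbar (D.neg r) (-1) :=
      RootGens.hbar_eq R _ _
    have e5 : R.nbar (D.neg r) 1 = (R.nbar (D.neg r) (-1))⁻¹ := by
      have := R.nbar_inv hD _ hnr (-1 : K)
      rw [neg_neg] at this
      exact this.symm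
    rw [e3, e2, e4, e5]
    group
  rw [key t₁ h1, key t₂ h2, key _ (mul_ne_zero h1 h2), hR3 _ t₁ t₂ hnr h1 h2]

end Cfsg.Agent.Lib.Helper5.StPres
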