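import Mathlib
import Cfsg.Agent.Lib.Helper5.StPres.Ker
import Cfsg.Agent.Lib.Helper5.StPres.HMul
import Cfsg.Agent.Lib.Helper5.ChevWRel

set_option autoImplicit false

/-!
The subgroup `H̄` generated by the `h̄_a(t)`, `a` fundamental: it is normal in `N̄`, words in the
`n̄_a(1)` acting in the same way on the roots agree modulo `H̄`, and the elements of `N̄` in the
kernel of the homomorphism to the Chevalley group lie in `H̄`.
-/

namespace Cfsg.Agent.Lib.Helper5.StPres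

open Cfsg Cfsg.Lie Cfsg.Agent.Lib.Helper5.ChevSym Cfsg.Agent.Lib.Helper5.ChevStruct

variable {D : ChevalleyDatum} {K : Type*} [Field K] {Γ : Type*} [Group Γ]

/-- `H̄`, generated by the `h̄_a(t)`, `a` fundamental -/
def RootGens.hSub (R : RootGens D K Γ) : Subgroup Γ :=
  Subgroup.closure {g | ∃ (i : ℕ) (t : K), i < D.rank ∧ t ≠ 0 ∧ g = R.hbar (D.simple i) t}

theorem RootGens.hbar_mem_hSub (R : RootGens D K Γ) (i : ℕ) (hi : i < D.rank) (t : K)
    (ht : t ≠ 0) : R.hbar (D.simple i) t ∈ R.hSub :=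
  Subgroup.subset_closure ⟨i, t, hi, ht, rfl⟩

/-- `n̄_a(t) = h̄_a(t) n̄_a(1)` -/
theorem RootGens.nbar_eq_hbar_mul (R : RootGens D K Γ) (hD : D ∈ Seven) (a : ℕ)
    (ha : a < D.nroots) (t : K) : R.nbar a t = R.hbar a t * R.nbar a 1 := by
  have := R.nbar_mul_neg hD a ha (-1 : K)
  rw [neg_neg] at this
  rw [R.hbar_eq, mul_assoc, this, mul_one]

/-- `h` acts on the root subgroups through the characters `c` -/
structure HActs (R : RootGens D K Γ) (h : Γ) (c : ℕ → K) : Prop where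
  ne : ∀ s < D.nroots, c s ≠ 0
  cneg : ∀ s < D.nroots, c (D.neg s) = (c s)⁻¹
  conj : ∀ s < D.nroots, ∀ u : K, h * R.X s u * h⁻¹ = R.X s (c s * u)

theorem HActs.one (R : RootGens D K Γ) : HActs R 1 (fun _ => 1) where
  ne := fun _ _ => one_ne_zero
  cneg := fun _ _ => inv_one.symm
  conj := fun s _ u => by simp

theorem HActs.mul {R : RootGens D K Γ} {h h' : Γ} {c c' : ℕ → K} (H : HActs R h c)
    (H' : HActs R h' c') : HActs R (h * h') (fun s => c s * c' s) where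
  ne := fun s hs => mul_ne_zero (H.ne s hs) (H'.ne s hs)
  cneg := fun s hs => by
    show c (D.neg s) * c' (D.neg s) = (c s * c' s)⁻¹
    rw [H.cneg s hs, H'.cneg s hs, mul_inv]
  conj := fun s hs u => by
    have e : h * h' * R.X s u * (h * h')⁻¹ = h * (h' * R.X s u * h'⁻¹) * h⁻¹ := by group
    rw [e, H'.conj s hs, H.conj s hs, mul_assoc]

theorem HActs.inv {R : RootGens D K Γ} {h : Γ} {c : ℕ → K} (H : HActs R h c) :
    HActs R h⁻¹ (fun s => (c s)⁻¹) where
  ne := fun s hs => inv_ne_zero (H.ne s hs)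
  cneg := fun s hs => by
    show (c (D.neg s))⁻¹ = ((c s)⁻¹)⁻¹
    rw [H.cneg s hs]
  conj := fun s hs u => by
    have h1 := H.conj s hs ((c s)⁻¹ * u)
    rw [← mul_assoc, mul_inv_cancel₀ (H.ne s hs), one_mul] at h1
    rw [← h1]
    group

theorem BiModel.hActs_hbar (B : BiModel D K Γ) (hD : D ∈ Seven) (i : ℕ) (hi : i < D.rank) (t : K)
    (ht : t ≠ 0) : ∃ c : ℕ → K, HActs B.R (B.R.hbar (D.simple i) t) c := by
  have hm1 : (-1 : K) ≠ 0 := by simp
  have h := (B.nActs_nbar hD i hi t ht).mul (B.nActs_nbar hD i hi (-1) hm1)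
  rw [← B.R.hbar_eq] at h
  refine ⟨_, ⟨h.ne, ?_, ?_⟩⟩
  · intro s hs
    exact h.cneg s hs
  · intro s hs u
    have := h.conj s hs u
    rw [this]
    show B.R.X (D.reflectRoot i (D.reflectRoot i s)) _ = _
    rw [(reflectRoot_invol D hD i hi s hs).2]

theorem BiModel.exists_hActs (B : BiModel D K Γ) (hD : D ∈ Seven) (h : Γ) (hh : h ∈ B.R.hSub) :
    ∃ c : ℕ → K, HActs B.R h c := by
  unfold RootGens.hSub at hh
  induction hh using Subgroup.closure_induction with
  | mem y hy =>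
    obtain ⟨i, t, hi, ht, rfl⟩ := hy
    exact B.hActs_hbar hD i hi t ht
  | one => exact ⟨_, HActs.one B.R⟩
  | mul a b _ _ ha hb =>
    obtain ⟨c, hc⟩ := ha
    obtain ⟨c', hc'⟩ := hb
    exact ⟨_, hc.mul hc'⟩
  | inv a _ ha =>
    obtain ⟨c, hc⟩ := ha
    exact ⟨_, hc.inv⟩

/-- conjugation of `n̄_s(v)` by an element acting on the root subgroups -/
theorem NActs.conj_nbar {R : RootGens D K Γ} {g : Γ} {w : ℕ → ℕ} {c : ℕ → K}
    (H : NActs R g w c) (hD : D ∈ Seven) (s : ℕ) (hs : s < D.nroots) (v : K) :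
    g * R.nbar s v * g⁻¹ = R.nbar (w s) (c s * v) := by
  obtain ⟨hns, -, -⟩ := neg_lt D hD s hs
  have e : g * R.nbar s v * g⁻¹
      = (g * R.X s v * g⁻¹) * (g * R.X (D.neg s) (-v⁻¹) * g⁻¹) * (g * R.X s v * g⁻¹) := by
    rw [R.nbar_eq]
    group
  rw [e, H.conj s hs, H.conj _ hns, H.neg s hs, H.cneg s hs, R.nbar_eq, mul_inv, mul_neg]

theorem HActs.conj_nbar {R : RootGens D K Γ} {h : Γ} {c : ℕ → K}
    (H : HActs R h c) (hD : D ∈ Seven) (s : ℕ) (hs : s < D.nroots) (v : K) :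
    h * R.nbar s v * h⁻¹ = R.nbar s (c s * v) := by
  obtain ⟨hns, -, -⟩ := neg_lt D hD s hs
  have e : h * R.nbar s v * h⁻¹
      = (h * R.X s v * h⁻¹) * (h * R.X (D.neg s) (-v⁻¹) * h⁻¹) * (h * R.X s v * h⁻¹) := by
    rw [R.nbar_eq]
    group
  rw [e, H.conj s hs, H.conj _ hns, H.cneg s hs, R.nbar_eq, mul_inv, mul_neg]

/-- `n̄_j(v)` normalises `H̄` -/
theorem BiModel.nbar_conj_hSub (B : BiModel D K Γ) (hD : D ∈ Seven) (j : ℕ) (hj : j < D.rank)
    (v : K) (hv : v ≠ 0) (h : Γ) (hh : h ∈ B.R.hSub) :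
    B.R.nbar (D.simple j) v * h * (B.R.nbar (D.simple j) v)⁻¹ ∈ B.R.hSub := by
  have hp := (checkUp_spec D j (chkUp_all D hD j hj)).1
  set n := B.R.nbar (D.simple j) v with hn
  have hh' := hh
  unfold RootGens.hSub at hh
  induction hh using Subgroup.closure_induction with
  | mem y hy =>
    obtain ⟨i, t, hi, ht, rfl⟩ := hy
    obtain ⟨c, hc⟩ := B.hActs_hbar hD i hi t ht
    set h := B.R.hbar (D.simple i) t with hh
    have h1 := hc.conj_nbar hD _ hp.1 v
    have hcv : c (D.simple j) * v ≠ 0 := mul_ne_zero (hc.ne _ hp.1) hv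
    have e : n * h * n⁻¹ = (B.R.hbar (D.simple j) v * (B.R.hbar (D.simple j) (c (D.simple j) * v))⁻¹)
        * h := by
      have e1 : n * h * n⁻¹ = n * (h * n * h⁻¹)⁻¹ * h := by group
      rw [e1, h1, hn, B.R.nbar_eq_hbar_mul hD _ hp.1 v,
        B.R.nbar_eq_hbar_mul hD _ hp.1 (c (D.simple j) * v)]
      group
    rw [e]
    exact mul_mem (mul_mem (B.R.hbar_mem_hSub j hj v hv)
      (inv_mem (B.R.hbar_mem_hSub j hj _ hcv))) (B.R.hbar_mem_hSub i hi t ht)
  | one =>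
    rw [mul_one, mul_inv_cancel]
    exact one_mem _
  | mul a b ha hb iha ihb =>
    have e : n * (a * b) * n⁻¹ = (n * a * n⁻¹) * (n * b * n⁻¹) := by group
    rw [e]
    exact mul_mem (iha ha) (ihb hb)
  | inv a ha iha =>
    have e : n * a⁻¹ * n⁻¹ = (n * a * n⁻¹)⁻¹ := by group
    rw [e]
    exact inv_mem (iha ha)

/-- the product of the `n̄_a(1)` along a word in the fundamental reflections -/
def RootGens.nword (R : RootGens D K Γ) (ω : List ℕ) : Γ :=
  (ω.map fun i => R.nbar (D.simple i) 1).prod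

theorem RootGens.nword_nil (R : RootGens D K Γ) : R.nword [] = 1 := rfl

theorem RootGens.nword_cons (R : RootGens D K Γ) (i : ℕ) (ω : List ℕ) :
    R.nword (i :: ω) = R.nbar (D.simple i) 1 * R.nword ω := by
  unfold RootGens.nword
  rw [List.map_cons, List.prod_cons]

theorem RootGens.nword_append (R : RootGens D K Γ) (a b : List ℕ) :
    R.nword (a ++ b) = R.nword a * R.nword b := by
  unfold RootGens.nword
  rw [List.map_append, List.prod_append]

theorem RootGens.nword_mem_nSub (R : RootGens D K Γ) (ω : List ℕ) (hω : Wd D ω) :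
    R.nword ω ∈ R.nSub := by
  unfold RootGens.nword
  apply Subgroup.list_prod_mem
  intro g hg
  rw [List.mem_map] at hg
  obtain ⟨i, hi, rfl⟩ := hg
  exact R.nbar_mem_nSub i (hω i hi) 1 one_ne_zero

/-- words in the `n̄_a(1)` normalise `H̄` -/
theorem BiModel.nword_conj_hSub (B : BiModel D K Γ) (hD : D ∈ Seven) (ω : List ℕ) (hω : Wd D ω)
    (h : Γ) (hh : h ∈ B.R.hSub) : B.R.nword ω * h * (B.R.nword ω)⁻¹ ∈ B.R.hSub := by
  induction ω with
  | nil =>
    rw [B.R.nword_nil, one_mul, inv_one, mul_one]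
    exact hh
  | cons i ω ih =>
    have e : B.R.nword (i :: ω) * h * (B.R.nword (i :: ω))⁻¹
        = B.R.nbar (D.simple i) 1 * (B.R.nword ω * h * (B.R.nword ω)⁻¹)
          * (B.R.nbar (D.simple i) 1)⁻¹ := by
      rw [B.R.nword_cons]
      group
    rw [e]
    exact B.nbar_conj_hSub hD i hω.head 1 one_ne_zero _ (ih hω.tail)

/-- the action of a word in the `n̄_a(1)` on the root subgroups -/
theorem BiModel.nActs_nword (B : BiModel D K Γ) (hD : D ∈ Seven) (ω : List ℕ) (hω : Wd D ω) :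
    ∃ c : ℕ → K, NActs B.R (B.R.nword ω) (wAct D ω) c := by
  induction ω with
  | nil => exact ⟨_, NActs.one B.R⟩
  | cons i ω ih =>
    obtain ⟨c, hc⟩ := ih hω.tail
    rw [B.R.nword_cons]
    exact ⟨_, (B.nActs_nbar hD i hω.head 1 one_ne_zero).mul hc⟩

/-- every element of `N̄` is a word in the `n̄_a(1)` modulo `H̄` -/
theorem BiModel.nSub_decomp (B : BiModel D K Γ) (hD : D ∈ Seven) (n : Γ) (hn : n ∈ B.R.nSub) :
    ∃ h ∈ B.R.hSub, ∃ ω : List ℕ, Wd D ω ∧ n = h * B.R.nword ω := by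
  have step : ∀ (i : ℕ) (t : K), i < D.rank → t ≠ 0 → ∀ y : Γ,
      (∃ h ∈ B.R.hSub, ∃ ω : List ℕ, Wd D ω ∧ y = h * B.R.nword ω) →
      ∃ h ∈ B.R.hSub, ∃ ω : List ℕ, Wd D ω ∧ B.R.nbar (D.simple i) t * y = h * B.R.nword ω := by
    rintro i t hi ht y ⟨h, hh, ω, hω, rfl⟩
    have hp := (checkUp_spec D i (chkUp_all D hD i hi)).1
    refine ⟨B.R.hbar (D.simple i) t * (B.R.nbar (D.simple i) 1 * h * (B.R.nbar (D.simple i) 1)⁻¹),
      mul_mem (B.R.hbar_mem_hSub i hi t ht) (B.nbar_conj_hSub hD i hi 1 one_ne_zero h hh),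
      i :: ω, Wd.cons hi hω, ?_⟩
    rw [B.R.nword_cons, B.R.nbar_eq_hbar_mul hD _ hp.1 t]
    group
  unfold RootGens.nSub at hn
  induction hn using Subgroup.closure_induction_left with
  | one => exact ⟨1, one_mem _, [], Wd.nil D, by rw [B.R.nword_nil, mul_one]⟩
  | mul_left x hx y _ ih =>
    obtain ⟨i, t, hi, ht, rfl⟩ := hx
    exact step i t hi ht y ih
  | inv_mul_cancel x hx y _ ih =>
    obtain ⟨i, t, hi, ht, rfl⟩ := hx
    have hp := (checkUp_spec D i (chkUp_all D hD i hi)).1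
    rw [B.R.nbar_inv hD _ hp.1]
    exact step i (-t) hi (neg_ne_zero.2 ht) y ih

/-- related words give the same class modulo `H̄` -/
theorem BiModel.wrel_hSub (B : BiModel D K Γ) (hD : D ∈ Seven) {a b : List ℕ} (h : WRel D a b) :
    B.R.nword a * (B.R.nword b)⁻¹ ∈ B.R.hSub := by
  induction h with
  | refl w hw =>
    rw [mul_inv_cancel]
    exact one_mem _
  | @symm a b _ ih =>
    have e : B.R.nword b * (B.R.nword a)⁻¹ = (B.R.nword a * (B.R.nword b)⁻¹)⁻¹ := by group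
    rw [e]
    exact inv_mem ih
  | @trans a b c _ _ ih1 ih2 =>
    have e : B.R.nword a * (B.R.nword c)⁻¹
        = (B.R.nword a * (B.R.nword b)⁻¹) * (B.R.nword b * (B.R.nword c)⁻¹) := by group
    rw [e]
    exact mul_mem ih1 ih2
  | @app a b c d h1 h2 ih1 ih2 =>
    have e : B.R.nword (a ++ c) * (B.R.nword (b ++ d))⁻¹
        = (B.R.nword a * (B.R.nword c * (B.R.nword d)⁻¹) * (B.R.nword a)⁻¹)
          * (B.R.nword a * (B.R.nword b)⁻¹) := by
      rw [B.R.nword_append, B.R.nword_append]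
      group
    rw [e]
    exact mul_mem (B.nword_conj_hSub hD a h1.wd.1 _ ih2) ih1
  | sq i hi =>
    have hp := (checkUp_spec D i (chkUp_all D hD i hi)).1
    have hm1 : (-1 : K) ≠ 0 := by simp
    have e : B.R.nword [i, i] * (B.R.nword [])⁻¹ = (B.R.hbar (D.simple i) (-1))⁻¹ := by
      rw [B.R.nword_nil, inv_one, mul_one, B.R.nword_cons, B.R.nword_cons, B.R.nword_nil, mul_one,
        B.R.hbar_eq]
      have := B.R.nbar_inv hD _ hp.1 (1 : K)
      rw [← this, mul_inv_rev, inv_inv]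
    rw [e]
    exact inv_mem (B.R.hbar_mem_hSub i hi _ hm1)
  | braid y j a hy hj ha h =>
    have hpj := (checkUp_spec D j (chkUp_all D hD j hj)).1
    have hpa := (checkUp_spec D a (chkUp_all D hD a ha)).1
    obtain ⟨c, hc⟩ := B.nActs_nword hD y hy
    have h1 := hc.conj_nbar hD _ hpj.1 1
    rw [h, mul_one] at h1
    have hc0 := hc.ne _ hpj.1
    have e : B.R.nword (y ++ [j]) * (B.R.nword (a :: y))⁻¹
        = B.R.hbar (D.simple a) (c (D.simple j)) := by
      have e1 : B.R.nword (y ++ [j]) = (B.R.nword y * B.R.nbar (D.simple j) 1 * (B.R.nword y)⁻¹)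
          * B.R.nword y := by
        rw [B.R.nword_append, B.R.nword_cons, B.R.nword_nil, mul_one]
        group
      rw [e1, h1, B.R.nword_cons, B.R.nbar_eq_hbar_mul hD _ hpa.1 (c (D.simple j))]
      group
    rw [e]
    exact B.R.hbar_mem_hSub a ha _ hc0

/-- the elements of `N̄` in the kernel lie in `H̄` -/
theorem BiModel.nSub_ker_le_hSub (B : BiModel D K Γ) (hD : D ∈ Seven) (n : Γ) (hn : n ∈ B.R.nSub)
    (hπ : B.π n = 1) : n ∈ B.R.hSub := by
  obtain ⟨h, hh, ω, hω, rfl⟩ := B.nSub_decomp hD n hn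
  obtain ⟨ch, hch⟩ := B.exists_hActs hD h hh
  obtain ⟨c, hc⟩ := B.nActs_nword hD ω hω
  have hact : ∀ r < D.nroots, wAct D ω r = wAct D [] r := by
    intro s hs
    have h1 : h * B.R.nword ω * B.R.X s 1 * (h * B.R.nword ω)⁻¹
        = B.R.X (wAct D ω s) (ch (wAct D ω s) * (c s * 1)) := by
      have e : h * B.R.nword ω * B.R.X s 1 * (h * B.R.nword ω)⁻¹
          = h * (B.R.nword ω * B.R.X s 1 * (B.R.nword ω)⁻¹) * h⁻¹ := by group
      rw [e, hc.conj s hs, hch.conj _ (hc.lt s hs)]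
    have h2 : ((B.π (h * B.R.nword ω * B.R.X s 1 * (h * B.R.nword ω)⁻¹) : GL D.Idx K) :
        Matrix D.Idx D.Idx K)
        = ((B.π (B.R.X (wAct D ω s) (ch (wAct D ω s) * (c s * 1))) : GL D.Idx K) :
          Matrix D.Idx D.Idx K) := by rw [h1]
    rw [map_mul, map_mul, map_inv, hπ, inv_one, mul_one, one_mul, B.π_X _ _ hs,
      B.π_X _ _ (hc.lt s hs)] at h2
    exact (x_root_inj D hD s _ hs (hc.lt s hs) 1 _ one_ne_zero h2).symm
  have hrel := wrel_of_act_eq D hD ω [] hω (Wd.nil D) hact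
  have := B.wrel_hSub hD hrel
  rw [B.R.nword_nil, inv_one, mul_one] at this
  exact mul_mem hh this

/-- the kernel lies in `H̄` -/
theorem BiModel.ker_le_hSub (B : BiModel D K Γ) (hD : D ∈ Seven) : B.π.ker ≤ B.R.hSub := by
  intro x hx
  rw [MonoidHom.mem_ker] at hx
  exact B.nSub_ker_le_hSub hD x (B.ker_le hD x hx).1 hx

end Cfsg.Agent.Lib.Helper5.StPres
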