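import Mathlib
import Cfsg.Agent.Lib.Helper5.StPres.HSub
import Cfsg.Agent.Lib.Helper5.StPres.CoverMain
import Cfsg.Agent.Lib.Helper5.ChevCore
import Cfsg.Agent.Lib.Helper5.ChevSimple
import Cfsg.Agent.Lib.Helper5.BNNormal

set_option autoImplicit false

/-!
Steinberg's presentation: the group presented by (R1), (R2), (R3) maps onto the Chevalley group, the
kernel is the centre and lies in `H̄`.
-/

namespace Cfsg.Agent.Lib.Helper5.StPres

open Cfsg Cfsg.Lie Cfsg.Agent.Lib.Helper5.ChevSym Cfsg.Agent.Lib.Helper5.ChevStruct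

variable {K : Type*} [Field K]

/-- (R3) in the presented group -/
theorem stGens_hbar_mul (D : ChevalleyDatum) (K : Type*) [Field K] (r : ℕ) (t₁ t₂ : K)
    (hr : r < D.nroots) (h1 : t₁ ≠ 0) (h2 : t₂ ≠ 0) :
    (stGens D K).hbar r t₁ * (stGens D K).hbar r t₂ = (stGens D K).hbar r (t₁ * t₂) := by
  have key : ∀ t : K, (stGens D K).hbar r t
      = PresentedGroup.mk (D.steinbergRels K) (D.stH r t) := by
    intro t
    unfold ChevalleyDatum.stH
    rw [mk_stWord]
    rfl
  rw [key, key, key, ← map_mul, ← mul_inv_eq_one, ← map_inv, ← map_mul]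
  apply PresentedGroup.one_of_mem
  exact Or.inr ⟨r, t₁, t₂, hr, h1, h2, rfl⟩

/-- the homomorphism to the Chevalley group for the opposite generators -/
noncomputable def stOpp (D : ChevalleyDatum) (hD : D ∈ Seven) (K : Type*) [Field K] :
    D.SteinbergGroup K →* ↥(D.group K) :=
  ((gGens D hD K).opp hD).fromSt hD
    ((gGens D hD K).opp_hbar_mul hD fun r t₁ t₂ hr h1 h2 => gGens_hbar_mul D hD r t₁ t₂ hr h1 h2)

theorem stOpp_stGen (D : ChevalleyDatum) (hD : D ∈ Seven) (r : ℕ) (hr : r < D.nroots) (t : K) :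
    stOpp D hD K ((stGens D K).X r t) = xG D hD (D.neg r) (-t) :=
  RootGens.fromSt_stGen _ hD _ r hr t

/-- the model attached to a homomorphism matching the generators -/
noncomputable def stBiModel (D : ChevalleyDatum) (hD : D ∈ Seven)
    (θ : D.SteinbergGroup K →* ↥(D.group K))
    (hθ : ∀ (r : ℕ) (t : K), r < D.nroots →
      ((θ (D.stGen K r t) : GL D.Idx K) : Matrix D.Idx D.Idx K) = D.x K r t) :
    BiModel D K (D.SteinbergGroup K) :=
  (stGens D K).biModel hD θ (stOpp D hD K)
    (by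
      intro r t hr
      apply Subtype.ext
      apply Units.ext
      rw [xG_val]
      exact hθ r t hr)
    (fun r t hr => stOpp_stGen D hD r hr t)

theorem ker_le_stBiModel (D : ChevalleyDatum) (hD : D ∈ Seven)
    (θ : D.SteinbergGroup K →* ↥(D.group K))
    (hθ : ∀ (r : ℕ) (t : K), r < D.nroots →
      ((θ (D.stGen K r t) : GL D.Idx K) : Matrix D.Idx D.Idx K) = D.x K r t) :
    θ.ker ≤ (stBiModel D hD θ hθ).π.ker := by
  intro x hx
  rw [MonoidHom.mem_ker] at hx ⊢
  show (D.group K).subtype (θ x) = 1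
  rw [hx, map_one]

/-- the kernel lies in `H̄` -/
theorem st_ker_le (D : ChevalleyDatum) (hD : D ∈ Seven) (θ : D.SteinbergGroup K →* ↥(D.group K))
    (hθ : ∀ (r : ℕ) (t : K), r < D.nroots →
      ((θ (D.stGen K r t) : GL D.Idx K) : Matrix D.Idx D.Idx K) = D.x K r t) :
    θ.ker ≤ Subgroup.closure {h | ∃ (i : ℕ) (t : K), i < D.rank ∧ t ≠ 0 ∧
      h = PresentedGroup.mk (D.steinbergRels K) (D.stH (D.simple i) t)} := by
  refine le_trans (ker_le_stBiModel D hD θ hθ)
    (le_trans ((stBiModel D hD θ hθ).ker_le_hSub hD) ?_)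
  show (stGens D K).hSub ≤ _
  unfold RootGens.hSub
  apply Subgroup.closure_mono
  rintro g ⟨i, t, hi, ht, rfl⟩
  refine ⟨i, t, hi, ht, ?_⟩
  unfold ChevalleyDatum.stH
  rw [mk_stWord]
  rfl

/-- the kernel is central -/
theorem st_ker_le_center (D : ChevalleyDatum) (hD : D ∈ Seven)
    (θ : D.SteinbergGroup K →* ↥(D.group K))
    (hθ : ∀ (r : ℕ) (t : K), r < D.nroots →
      ((θ (D.stGen K r t) : GL D.Idx K) : Matrix D.Idx D.Idx K) = D.x K r t) :
    θ.ker ≤ Subgroup.center (D.SteinbergGroup K) :=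
  le_trans (ker_le_stBiModel D hD θ hθ) ((stBiModel D hD θ hθ).ker_le_center hD)

/-- the Chevalley group has trivial centre -/
theorem center_group_eq_bot (D : ChevalleyDatum) (hD : D ∈ Seven) (K : Type*) [Field K] :
    Subgroup.center ↥(D.group K) = ⊥ := by
  have hrank : 0 < D.rank := by
    have hD' := hD
    simp only [Seven, List.mem_cons, List.not_mem_nil, or_false] at hD'
    rcases hD' with rfl | rfl | rfl | rfl | rfl | rfl | rfl <;> decide
  have hp := (checkUp_spec D 0 (chkUp_all D hD 0 hrank)).1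
  rcases Cfsg.Agent.Lib.Helper5.BNNormal.normal_le_core_or_sup_eq_top (chevBNPair D hD K)
    (chevBNPair_irreducible D hD) (Subgroup.center ↥(D.group K)) with h | h
  · rw [chevBNPair_B, borel_normalCore D hD] at h
    exact le_bot_iff.1 h
  · exfalso
    set xa : ↥(D.group K) := xG D hD (D.simple 0) 1 with hxa
    have hxaB : xa ∈ (chevBNPair D hD K).B := by
      rw [chevBNPair_B, Subgroup.mem_subgroupOf]
      exact Subgroup.mem_sup_left (xGL_mem_pos D hD _ hp 1)
    have hcore : xa ∈ ((chevBNPair D hD K).B).normalCore := by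
      intro g
      have hg : g ∈ (((chevBNPair D hD K).B ⊔ Subgroup.center ↥(D.group K) :
          Subgroup ↥(D.group K)) : Set ↥(D.group K)) := by
        rw [h]; trivial
      rw [Subgroup.mul_normal] at hg
      obtain ⟨b, hb, z, hz, rfl⟩ := Set.mem_mul.1 hg
      have e : b * z * xa * (b * z)⁻¹ = b * xa * b⁻¹ := by
        have hz' := Subgroup.mem_center_iff.1 hz xa
        calc b * z * xa * (b * z)⁻¹ = b * (z * xa) * z⁻¹ * b⁻¹ := by group
          _ = b * (xa * z) * z⁻¹ * b⁻¹ := by rw [hz']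
          _ = b * xa * b⁻¹ := by group
      rw [e]
      exact mul_mem (mul_mem hb hxaB) (inv_mem hb)
    rw [chevBNPair_B, borel_normalCore D hD, Subgroup.mem_bot] at hcore
    have h1 : D.x K (D.simple 0) 1 = D.x K (D.simple 0) 0 := by
      rw [← xG_val D hD (D.simple 0) 1, ← xG_val D hD (D.simple 0) 0]
      have h0 : xG (K := K) D hD (D.simple 0) 0 = 1 := (gGens D hD K).X_zero _ hp.1
      rw [← hxa, hcore, h0]
    exact one_ne_zero (x_param_inj D hD _ hp.1 _ _ h1)

/-- Steinberg's theorem: the presented group is a central extension of the Chevalley group, with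
kernel the centre -/
theorem st_main (D : ChevalleyDatum) (hD : D ∈ Seven) (K : Type*) [Field K] :
    ∃ θ : D.SteinbergGroup K →* ↥(D.group K), Function.Surjective θ ∧
      θ.ker = Subgroup.center (D.SteinbergGroup K) ∧
      ∀ (r : ℕ) (t : K), r < D.nroots →
        ((θ (D.stGen K r t) : GL D.Idx K) : Matrix D.Idx D.Idx K) = D.x K r t := by
  set θ := (gGens D hD K).fromSt hD
    (fun r t₁ t₂ hr h1 h2 => gGens_hbar_mul D hD r t₁ t₂ hr h1 h2) with hθdef
  have hθ : ∀ (r : ℕ) (t : K), r < D.nroots → θ ((stGens D K).X r t) = xG D hD r t :=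
    fun r t hr => RootGens.fromSt_stGen _ hD _ r hr t
  have hθ' : ∀ (r : ℕ) (t : K), r < D.nroots →
      ((θ (D.stGen K r t) : GL D.Idx K) : Matrix D.Idx D.Idx K) = D.x K r t := by
    intro r t hr
    have := hθ r t hr
    show (((θ ((stGens D K).X r t) : ↥(D.group K)) : GL D.Idx K) : Matrix D.Idx D.Idx K) = _
    rw [this, xG_val]
  have hsurj := surjective_of_gens (stGens D K) hD θ hθ
  refine ⟨θ, hsurj, le_antisymm (st_ker_le_center D hD θ hθ') ?_, hθ'⟩
  intro z hz
  rw [MonoidHom.mem_ker]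
  have hc : θ z ∈ Subgroup.center ↥(D.group K) := by
    rw [Subgroup.mem_center_iff]
    intro g
    obtain ⟨y, rfl⟩ := hsurj g
    rw [← map_mul, ← map_mul, Subgroup.mem_center_iff.1 hz y]
  rw [center_group_eq_bot D hD K, Subgroup.mem_bot] at hc
  exact hc

end Cfsg.Agent.Lib.Helper5.StPres
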