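import Mathlib
import Cfsg.Agent.Lib.Helper5.StPres.StMain
import Cfsg.Agent.Lib.Helper5.StPres.RankOneSym
import Cfsg.Agent.Lib.Helper5.ChevGenN
import Cfsg.Agent.Lib.Helper5.ChevChk.GenN
import Cfsg.Agent.Lib.Helper5.ChevChk.GenNE7
import Cfsg.Agent.Lib.Helper5.ChevChk.GenNE8
import Cfsg.Agent.Lib.Helper5.ChevNSimple

set_option autoImplicit false

/-!
Over a finite field the relations (R3) hold in the group presented by (R1), (R2), which is
therefore isomorphic to Steinberg's group.
-/

namespace Cfsg.Agent.Lib.Helper5.StPres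

open Cfsg Cfsg.Lie Cfsg.Agent.Lib.Helper5.ChevSym Cfsg.Agent.Lib.Helper5.ChevStruct

variable {D : ChevalleyDatum} {K : Type*} [Field K] {Γ : Type*} [Group Γ]

theorem RootGens.hbar_at_one (R : RootGens D K Γ) (hD : D ∈ Seven) (a : ℕ) (ha : a < D.nroots) :
    R.hbar a 1 = 1 := by
  rw [R.hbar_eq, R.nbar_mul_neg hD a ha]

theorem cst_simple (D : ChevalleyDatum) (hD : D ∈ Seven) (i : ℕ) (hi : i < D.rank) (t : K) :
    cst D i t (D.simple i) = -(t⁻¹ * t⁻¹) := by
  have hp := (checkUp_spec D i (chkUp_all D hD i hi)).1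
  unfold cst
  rw [(nMat_simple (F := K) D hD i hi).2.1, reflectRoot_simple]
  have h := (weightsOK_all D hD).neg (D.simple i) hp.1 i hi
  have h' : D.cartan i (D.neg (D.simple i)) = - D.cartan i (D.simple i) := h
  rw [h', cartan_simple_self D hD i hi, zpow_neg, zpow_two, mul_inv]
  push_cast
  ring

theorem cst_neg_simple (D : ChevalleyDatum) (hD : D ∈ Seven) (i : ℕ) (hi : i < D.rank) (t : K) :
    cst D i t (D.neg (D.simple i)) = -(t * t) := by
  have hp := (checkUp_spec D i (chkUp_all D hD i hi)).1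
  rw [cst_neg D hD i hi t _ hp.1, cst_simple D hD i hi, inv_neg, mul_inv, inv_inv]

/-- (R3) in `GL` -/
theorem hMat_mul_hMat (D : ChevalleyDatum) (hD : D ∈ Seven) (r : ℕ) (hr : r < D.nroots)
    (t u : K) (ht : t ≠ 0) (hu : u ≠ 0) : D.hMat K r t * D.hMat K r u = D.hMat K r (t * u) := by
  have key : ∀ v : K, ((((gGens D hD K).hbar r v : ↥(D.group K)) : GL D.Idx K) :
      Matrix D.Idx D.Idx K) = D.hMat K r v := by
    intro v
    unfold RootGens.hbar RootGens.word
    rw [show (gGens D hD K).X = xG D hD from rfl, subtype_word_xG, wordGL_val]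
    rfl
  rw [← key t, ← key u, ← key (t * u), ← gGens_hbar_mul D hD r t u hr ht hu, Subgroup.coe_mul,
    Units.val_mul]

/-- the rank one data attached to a fundamental root -/
def BiModel.sl2Like (B : BiModel D K Γ) (hD : D ∈ Seven) (i : ℕ) (hi : i < D.rank) :
    SL2Like K Γ where
  x := B.R.X (D.simple i)
  y := B.R.X (D.neg (D.simple i))
  x_add := fun t u => B.R.X_add _ t u (checkUp_spec D i (chkUp_all D hD i hi)).1.1
  y_add := fun t u => B.R.X_add _ t u
    (neg_lt D hD _ (checkUp_spec D i (chkUp_all D hD i hi)).1.1).1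
  conj_x := by
    intro t u ht
    have := B.nbar_conj_self hD i hi t ht u
    rw [B.R.nbar_eq, cst_simple D hD i hi] at this
    exact this
  conj_y := by
    intro t u ht
    have := B.nbar_conj_opp hD i hi t ht u
    rw [B.R.nbar_eq, cst_neg_simple D hD i hi] at this
    exact this
  central := by
    intro t u ht hu
    have hp := (checkUp_spec D i (chkUp_all D hD i hi)).1
    have e : ∀ v : K, B.R.X (D.simple i) v * B.R.X (D.neg (D.simple i)) (-v⁻¹) * B.R.X (D.simple i) v
        * (B.R.X (D.simple i) (-1) * B.R.X (D.neg (D.simple i)) (-(-1 : K)⁻¹)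
          * B.R.X (D.simple i) (-1)) = B.R.hbar (D.simple i) v := by
      intro v
      rw [B.R.hbar_eq, B.R.nbar_eq, B.R.nbar_eq]
    rw [e t, e u, e (t * u)]
    apply B.ker_le_center hD
    rw [MonoidHom.mem_ker]
    -- compare the matrices
    have h1 : B.π (B.R.hbar (D.simple i) t) * B.π (B.R.hbar (D.simple i) u)
        = B.π (B.R.hbar (D.simple i) (t * u)) := by
      apply Units.ext
      rw [Units.val_mul]
      have hπ : ∀ v : K, ((B.π (B.R.hbar (D.simple i) v) : GL D.Idx K) : Matrix D.Idx D.Idx K)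
          = D.hMat K (D.simple i) v := by
        intro v
        rw [B.R.hbar_eq, map_mul, Units.val_mul, B.π_nbar hD _ hp.1, B.π_nbar hD _ hp.1, hMat_eq]
      rw [hπ, hπ, hπ, hMat_mul_hMat D hD _ hp.1 t u ht hu]
    rw [map_mul, map_mul, map_inv, h1, mul_inv_cancel]

theorem BiModel.sl2Like_h (B : BiModel D K Γ) (hD : D ∈ Seven) (i : ℕ) (hi : i < D.rank) (t : K) :
    (B.sl2Like hD i hi).h t = B.R.hbar (D.simple i) t := by
  rw [B.R.hbar_eq, B.R.nbar_eq, B.R.nbar_eq]
  rfl

/-- (R3) for the fundamental roots over a finite field -/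
theorem BiModel.hbar_simple_mul [Finite K] (B : BiModel D K Γ) (hD : D ∈ Seven) (i : ℕ)
    (hi : i < D.rank) (t u : K) (ht : t ≠ 0) (hu : u ≠ 0) :
    B.R.hbar (D.simple i) t * B.R.hbar (D.simple i) u = B.R.hbar (D.simple i) (t * u) := by
  rw [← B.sl2Like_h hD i hi, ← B.sl2Like_h hD i hi, ← B.sl2Like_h hD i hi]
  exact (B.sl2Like hD i hi).h_mul_h t u ht hu

/-- every root is conjugate to a fundamental root under the Weyl group -/
theorem exists_simple_reach (D : ChevalleyDatum) (hD : D ∈ Seven) (r : ℕ) (hr : r < D.nroots) :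
    ∃ j < D.rank, ∃ ω : List ℕ, Wd D ω ∧ wAct D ω (D.simple j) = r := by
  have key : ∀ (i j : ℕ), i < D.rank → j < D.rank →
      checkReach D [D.simple i, D.simple j] = true →
      ∃ j < D.rank, ∃ ω : List ℕ, Wd D ω ∧ wAct D ω (D.simple j) = r := by
    intro i j hi hj hreach
    have hs : ∀ k ∈ [D.simple i, D.simple j], k < D.nroots := by
      intro k hk
      simp only [List.mem_cons, List.not_mem_nil, or_false] at hk
      rcases hk with rfl | rfl
      · exact simple_lt D hD i hi
      · exact simple_lt D hD j hj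
    obtain ⟨k, hk, ω, hω, e⟩ := checkReach_spec D hD _ hs hreach r hr
    simp only [List.mem_cons, List.not_mem_nil, or_false] at hk
    rcases hk with rfl | rfl
    · exact ⟨i, hi, ω, hω, e⟩
    · exact ⟨j, hj, ω, hω, e⟩
  have key1 : ∀ (i : ℕ), i < D.rank → checkReach D [D.simple i] = true →
      ∃ j < D.rank, ∃ ω : List ℕ, Wd D ω ∧ wAct D ω (D.simple j) = r := by
    intro i hi hreach
    have hs : ∀ k ∈ [D.simple i], k < D.nroots := by
      intro k hk
      rw [List.mem_singleton] at hk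
      rw [hk]
      exact simple_lt D hD i hi
    obtain ⟨k, hk, ω, hω, e⟩ := checkReach_spec D hD _ hs hreach r hr
    rw [List.mem_singleton] at hk
    subst hk
    exact ⟨i, hi, ω, hω, e⟩
  have hD' := hD
  simp only [Seven, List.mem_cons, List.not_mem_nil, or_false] at hD'
  rcases hD' with rfl | rfl | rfl | rfl | rfl | rfl | rfl
  · exact key 0 1 (by decide) (by decide) (reach2_G2 0 (by decide) 1 (by decide) (by decide)
      (by decide))
  · exact key 0 1 (by decide) (by decide) (reach2_B2 0 (by decide) 1 (by decide) (by decide)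
      (by decide))
  · exact key1 0 (by decide) (reach_D4 0 (by decide))
  · exact key 0 3 (by decide) (by decide) (reach2_F4 0 (by decide) 3 (by decide) (by decide)
      (by decide))
  · exact key1 0 (by decide) (reach_E6 0 (by decide))
  · exact key1 0 (by decide) (reach_E7 0 (by decide))
  · exact key1 0 (by decide) reach_E8

/-- (R3) for all roots follows from (R3) for the fundamental roots -/
theorem BiModel.hbar_mul_of_simple (B : BiModel D K Γ) (hD : D ∈ Seven)
    (hR3 : ∀ (i : ℕ) (t₁ t₂ : K), i < D.rank → t₁ ≠ 0 → t₂ ≠ 0 →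
      B.R.hbar (D.simple i) t₁ * B.R.hbar (D.simple i) t₂ = B.R.hbar (D.simple i) (t₁ * t₂))
    (r : ℕ) (t u : K) (hr : r < D.nroots) (ht : t ≠ 0) (hu : u ≠ 0) :
    B.R.hbar r t * B.R.hbar r u = B.R.hbar r (t * u) := by
  obtain ⟨j, hj, ω, hω, rfl⟩ := exists_simple_reach D hD r hr
  have hp := (checkUp_spec D j (chkUp_all D hD j hj)).1
  obtain ⟨c, hc⟩ := B.nActs_nword hD ω hω
  set g := B.R.nword ω with hg
  have hc0 : c (D.simple j) ≠ 0 := hc.ne (D.simple j) hp.1
  set φ : K → Γ := fun v => g * B.R.hbar (D.simple j) v * g⁻¹ with hφ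
  have hφmul : ∀ v w : K, v ≠ 0 → w ≠ 0 → φ v * φ w = φ (v * w) := by
    intro v w hv hw
    show g * B.R.hbar (D.simple j) v * g⁻¹ * (g * B.R.hbar (D.simple j) w * g⁻¹)
      = g * B.R.hbar (D.simple j) (v * w) * g⁻¹
    rw [← hR3 j v w hj hv hw]
    group
  have hφ1 : φ 1 = 1 := by
    show g * B.R.hbar (D.simple j) 1 * g⁻¹ = 1
    rw [B.R.hbar_at_one hD (D.simple j) hp.1, mul_one, mul_inv_cancel]
  -- `φ(v) = h̄_r(c v) h̄_r(c)⁻¹`
  have h1 : ∀ v : K, φ v = B.R.hbar (wAct D ω (D.simple j)) (c (D.simple j) * v)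
      * (B.R.hbar (wAct D ω (D.simple j)) (c (D.simple j)))⁻¹ := by
    intro v
    have e : φ v = (g * B.R.nbar (D.simple j) v * g⁻¹) * (g * B.R.nbar (D.simple j) (-1) * g⁻¹) := by
      show g * B.R.hbar (D.simple j) v * g⁻¹ = _
      rw [B.R.hbar_eq]
      group
    have e3 : B.R.nbar (wAct D ω (D.simple j)) (c (D.simple j) * -1)
        = (B.R.nbar (wAct D ω (D.simple j)) (c (D.simple j)))⁻¹ := by
      rw [mul_neg_one, ← B.R.nbar_inv hD _ hr (c (D.simple j))]
    rw [e, hc.conj_nbar hD (D.simple j) hp.1, hc.conj_nbar hD (D.simple j) hp.1, e3, B.R.hbar_eq,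
      B.R.hbar_eq]
    group
  have h2 : B.R.hbar (wAct D ω (D.simple j)) (c (D.simple j)) = φ (c (D.simple j)) := by
    have e1 := h1 (c (D.simple j))⁻¹
    rw [mul_inv_cancel₀ hc0, B.R.hbar_at_one hD _ hr, one_mul] at e1
    have e2 := hφmul (c (D.simple j)) (c (D.simple j))⁻¹ hc0 (inv_ne_zero hc0)
    rw [mul_inv_cancel₀ hc0, hφ1, e1, mul_inv_eq_one] at e2
    exact e2.symm
  have h3 : ∀ s : K, s ≠ 0 → B.R.hbar (wAct D ω (D.simple j)) s = φ s := by
    intro s hs
    have e1 := h1 ((c (D.simple j))⁻¹ * s)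
    rw [← mul_assoc, mul_inv_cancel₀ hc0, one_mul, h2] at e1
    have e2 : B.R.hbar (wAct D ω (D.simple j)) s
        = φ ((c (D.simple j))⁻¹ * s) * φ (c (D.simple j)) := by
      rw [e1]
      group
    rw [e2, hφmul _ _ (mul_ne_zero (inv_ne_zero hc0) hs) hc0]
    congr 1
    field_simp
  rw [h3 t ht, h3 u hu, h3 _ (mul_ne_zero ht hu), hφmul t u ht hu]

/-- the model of the group presented by (R1), (R2) -/
noncomputable def coverBiModel (D : ChevalleyDatum) (hD : D ∈ Seven) (K : Type*) [Field K] :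
    BiModel D K (D.SteinbergCover K) :=
  (coverGens D K).biModel hD ((gGens D hD K).fromCover hD)
    (((gGens D hD K).opp hD).fromCover hD)
    (fun r t hr => (gGens D hD K).fromCover_scGen hD r hr t)
    (fun r t hr => ((gGens D hD K).opp hD).fromCover_scGen hD r hr t)

/-- (R3) in the group presented by (R1), (R2) over a finite field -/
theorem cover_hbar_mul (D : ChevalleyDatum) (hD : D ∈ Seven) (K : Type*) [Field K] [Finite K]
    (r : ℕ) (t u : K) (hr : r < D.nroots) (ht : t ≠ 0) (hu : u ≠ 0) :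
    (coverGens D K).hbar r t * (coverGens D K).hbar r u = (coverGens D K).hbar r (t * u) :=
  (coverBiModel D hD K).hbar_mul_of_simple hD
    (fun i t₁ t₂ hi h1 h2 => (coverBiModel D hD K).hbar_simple_mul hD i hi t₁ t₂ h1 h2)
    r t u hr ht hu

/-- over a finite field the two presented groups are isomorphic -/
theorem cover_equiv_st (D : ChevalleyDatum) (hD : D ∈ Seven) (K : Type*) [Field K] [Finite K] :
    ∃ e : D.SteinbergCover K ≃* D.SteinbergGroup K,
      ∀ (r : ℕ) (t : K), e (D.scGen K r t) = D.stGen K r t := by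
  set f : D.SteinbergCover K →* D.SteinbergGroup K := (stGens D K).fromCover hD with hf
  set g : D.SteinbergGroup K →* D.SteinbergCover K :=
    (coverGens D K).fromSt hD (fun r t u hr ht hu => cover_hbar_mul D hD K r t u hr ht hu) with hg
  have hfX : ∀ (r : ℕ) (t : K), r < D.nroots → f (D.scGen K r t) = D.stGen K r t :=
    fun r t hr => (stGens D K).fromCover_scGen hD r hr t
  have hgX : ∀ (r : ℕ) (t : K), r < D.nroots → g (D.stGen K r t) = D.scGen K r t :=
    fun r t hr => (coverGens D K).fromSt_stGen hD _ r hr t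
  have ofc : ∀ x : Fin D.nroots × K,
      (PresentedGroup.of x : D.SteinbergCover K) = D.scGen K x.1.val x.2 := by
    intro x
    unfold ChevalleyDatum.scGen ChevalleyDatum.stX
    rw [dif_pos x.1.isLt]
    rfl
  have ofs : ∀ x : Fin D.nroots × K,
      (PresentedGroup.of x : D.SteinbergGroup K) = D.stGen K x.1.val x.2 := by
    intro x
    unfold ChevalleyDatum.stGen ChevalleyDatum.stX
    rw [dif_pos x.1.isLt]
    rfl
  have h1 : g.comp f = MonoidHom.id _ := by
    apply PresentedGroup.ext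
    intro x
    rw [MonoidHom.comp_apply, MonoidHom.id_apply, ofc, hfX _ _ x.1.isLt, hgX _ _ x.1.isLt]
  have h2 : f.comp g = MonoidHom.id _ := by
    apply PresentedGroup.ext
    intro x
    rw [MonoidHom.comp_apply, MonoidHom.id_apply, ofs, hgX _ _ x.1.isLt, hfX _ _ x.1.isLt]
  refine ⟨MonoidHom.toMulEquiv f g h1 h2, ?_⟩
  intro r t
  show f (D.scGen K r t) = D.stGen K r t
  by_cases hr : r < D.nroots
  · exact hfX r t hr
  · unfold ChevalleyDatum.scGen ChevalleyDatum.stGen ChevalleyDatum.stX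
    rw [dif_neg hr, map_one, map_one, map_one]

end Cfsg.Agent.Lib.Helper5.StPres
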