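import Mathlib
import Cfsg.Agent.Lib.Helper5.StPres.StMain
import Cfsg.Agent.Lib.Helper5.ChevTorusKer
import Cfsg.Agent.Lib.Helper5.MatPowKer

set_option autoImplicit false

/-!
With the relations (R3), the subgroup `H̄` is the image of `(Kˣ)^l`; when the Cartan matrix is
unimodular the homomorphism to the Chevalley group is injective on `H̄`, and Steinberg's group has
trivial centre.
-/

namespace Cfsg.Agent.Lib.Helper5.StPres

open Cfsg Cfsg.Lie Cfsg.Agent.Lib.Helper5.ChevSym Cfsg.Agent.Lib.Helper5.ChevStruct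
  Cfsg.Agent.Lib.Helper5.MatPow

variable {D : ChevalleyDatum} {K : Type*} [Field K] {Γ : Type*} [Group Γ]

theorem RootGens.hbar_one (R : RootGens D K Γ) (hD : D ∈ Seven) (a : ℕ) (ha : a < D.nroots) :
    R.hbar a 1 = 1 := by
  rw [R.hbar_eq, R.nbar_mul_neg hD a ha]

/-- the image of `h̄_a(t)` -/
theorem BiModel.π_hbar (B : BiModel D K Γ) (hD : D ∈ Seven) (a : ℕ) (ha : a < D.nroots) (t : K) :
    ((B.π (B.R.hbar a t) : GL D.Idx K) : Matrix D.Idx D.Idx K) = D.hMat K a t := by
  rw [B.R.hbar_eq, map_mul, Units.val_mul, B.π_nbar hD a ha, B.π_nbar hD a ha, hMat_eq]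

/-- with (R3), the `h̄_a(t)` for fundamental `a` commute -/
theorem BiModel.hbar_comm (B : BiModel D K Γ) (hD : D ∈ Seven)
    (hR3 : ∀ (i : ℕ) (t₁ t₂ : K), i < D.rank → t₁ ≠ 0 → t₂ ≠ 0 →
      B.R.hbar (D.simple i) t₁ * B.R.hbar (D.simple i) t₂ = B.R.hbar (D.simple i) (t₁ * t₂))
    (i j : ℕ) (hi : i < D.rank) (hj : j < D.rank) (t u : K) (ht : t ≠ 0) (hu : u ≠ 0) :
    B.R.hbar (D.simple j) t * B.R.hbar (D.simple i) u
      = B.R.hbar (D.simple i) u * B.R.hbar (D.simple j) t := by
  have hp := (checkUp_spec D i (chkUp_all D hD i hi)).1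
  obtain ⟨c, hc⟩ := B.hActs_hbar hD j hj t ht
  set h := B.R.hbar (D.simple j) t with hh
  have hc0 := hc.ne _ hp.1
  have h1 := hc.conj_nbar hD _ hp.1 u
  have h2 := hc.conj_nbar hD _ hp.1 (-1)
  have key : h * B.R.hbar (D.simple i) u * h⁻¹ = B.R.hbar (D.simple i) u := by
    have e : h * B.R.hbar (D.simple i) u * h⁻¹
        = (h * B.R.nbar (D.simple i) u * h⁻¹) * (h * B.R.nbar (D.simple i) (-1) * h⁻¹) := by
      rw [B.R.hbar_eq]
      group
    rw [e, h1, h2, mul_neg_one, ← B.R.nbar_inv hD _ hp.1,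
      B.R.nbar_eq_hbar_mul hD _ hp.1 (c (D.simple i) * u),
      B.R.nbar_eq_hbar_mul hD _ hp.1 (c (D.simple i)), mul_comm (c (D.simple i)) u,
      ← hR3 i u _ hi hu hc0]
    group
  have : h * B.R.hbar (D.simple i) u = (h * B.R.hbar (D.simple i) u * h⁻¹) * h := by group
  rw [this, key]

/-- `∏_{i<k} h̄_{a_i}(c_i)` -/
def RootGens.hprod (R : RootGens D K Γ) (c : ℕ → K) (k : ℕ) : Γ :=
  ((List.range k).map fun i => R.hbar (D.simple i) (c i)).prod

theorem RootGens.hprod_zero (R : RootGens D K Γ) (c : ℕ → K) : R.hprod c 0 = 1 := rfl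

theorem RootGens.hprod_succ (R : RootGens D K Γ) (c : ℕ → K) (k : ℕ) :
    R.hprod c (k + 1) = R.hprod c k * R.hbar (D.simple k) (c k) := by
  unfold RootGens.hprod
  rw [List.range_succ, List.map_append, List.prod_append, List.map_singleton, List.prod_singleton]

theorem RootGens.hprod_congr (R : RootGens D K Γ) (c c' : ℕ → K) (k : ℕ)
    (h : ∀ i < k, c i = c' i) : R.hprod c k = R.hprod c' k := by
  unfold RootGens.hprod
  congr 1
  apply List.map_congr_left
  intro i hi
  rw [h i (List.mem_range.1 hi)]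

section R3

variable (B : BiModel D K Γ) (hD : D ∈ Seven)
  (hR3 : ∀ (i : ℕ) (t₁ t₂ : K), i < D.rank → t₁ ≠ 0 → t₂ ≠ 0 →
      B.R.hbar (D.simple i) t₁ * B.R.hbar (D.simple i) t₂ = B.R.hbar (D.simple i) (t₁ * t₂))

include hD hR3

theorem BiModel.hbar_comm_hprod (j : ℕ) (hj : j < D.rank) (t : K) (ht : t ≠ 0) (c : ℕ → K)
    (hc : ∀ i, c i ≠ 0) (k : ℕ) (hk : k ≤ D.rank) :
    B.R.hbar (D.simple j) t * B.R.hprod c k = B.R.hprod c k * B.R.hbar (D.simple j) t := by
  induction k with
  | zero => rw [B.R.hprod_zero, mul_one, one_mul]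
  | succ k ih =>
    rw [B.R.hprod_succ, ← mul_assoc, ih (by omega), mul_assoc,
      B.hbar_comm hD hR3 k j (by omega) hj t (c k) ht (hc k), mul_assoc]

theorem BiModel.hprod_mul (c c' : ℕ → K) (hc : ∀ i, c i ≠ 0) (hc' : ∀ i, c' i ≠ 0) (k : ℕ)
    (hk : k ≤ D.rank) :
    B.R.hprod c k * B.R.hprod c' k = B.R.hprod (fun i => c i * c' i) k := by
  induction k with
  | zero => rw [B.R.hprod_zero, B.R.hprod_zero, B.R.hprod_zero, mul_one]
  | succ k ih =>
    rw [B.R.hprod_succ, B.R.hprod_succ, B.R.hprod_succ, ← ih (by omega),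
      ← hR3 k (c k) (c' k) (by omega) (hc k) (hc' k)]
    have := B.hbar_comm_hprod hD hR3 k (by omega) (c k) (hc k) c' hc' k (by omega)
    calc B.R.hprod c k * B.R.hbar (D.simple k) (c k) * (B.R.hprod c' k * B.R.hbar (D.simple k) (c' k))
        = B.R.hprod c k * (B.R.hbar (D.simple k) (c k) * B.R.hprod c' k)
          * B.R.hbar (D.simple k) (c' k) := by group
      _ = B.R.hprod c k * (B.R.hprod c' k * B.R.hbar (D.simple k) (c k))
          * B.R.hbar (D.simple k) (c' k) := by rw [this]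
      _ = _ := by group

omit hR3 in
theorem BiModel.hprod_one (k : ℕ) (hk : k ≤ D.rank) : B.R.hprod (fun _ => (1 : K)) k = 1 := by
  induction k with
  | zero => exact B.R.hprod_zero _
  | succ k ih =>
    have hp := (checkUp_spec D k (chkUp_all D hD k (by omega))).1
    rw [B.R.hprod_succ, ih (by omega), one_mul, B.R.hbar_one hD _ hp.1]

omit hR3 in
theorem BiModel.hprod_single (i : ℕ) (t : K) (k : ℕ) (hk : k ≤ D.rank) :
    B.R.hprod (fun j => if j = i then t else 1) k
      = if i < k then B.R.hbar (D.simple i) t else 1 := by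
  induction k with
  | zero => rw [B.R.hprod_zero, if_neg (by omega)]
  | succ k ih =>
    have hp := (checkUp_spec D k (chkUp_all D hD k (by omega))).1
    rw [B.R.hprod_succ, ih (by omega)]
    beta_reduce
    by_cases h1 : i < k
    · have h2 : ¬ k = i := by omega
      have h3 : i < k + 1 := by omega
      rw [if_pos h1, if_pos h3, if_neg h2, B.R.hbar_one hD _ hp.1, mul_one]
    · by_cases h2 : k = i
      · have h3 : i < k + 1 := by omega
        rw [if_neg h1, if_pos h2, if_pos h3, one_mul, h2]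
      · have h3 : ¬ i < k + 1 := by omega
        rw [if_neg h1, if_neg h2, if_neg h3, B.R.hbar_one hD _ hp.1, mul_one]

/-- every element of `H̄` is a product `∏ h̄_{a_i}(c_i)` -/
theorem BiModel.exists_hprod (h : Γ) (hh : h ∈ B.R.hSub) :
    ∃ c : ℕ → K, (∀ i, c i ≠ 0) ∧ h = B.R.hprod c D.rank := by
  unfold RootGens.hSub at hh
  induction hh using Subgroup.closure_induction with
  | mem y hy =>
    obtain ⟨i, t, hi, ht, rfl⟩ := hy
    refine ⟨fun j => if j = i then t else 1, ?_, ?_⟩
    · intro j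
      beta_reduce
      split_ifs
      · exact ht
      · exact one_ne_zero
    · rw [B.hprod_single hD i t D.rank (le_refl _), if_pos hi]
  | one => exact ⟨fun _ => 1, fun _ => one_ne_zero, (B.hprod_one hD D.rank (le_refl _)).symm⟩
  | mul a b _ _ ha hb =>
    obtain ⟨c, hc, rfl⟩ := ha
    obtain ⟨c', hc', rfl⟩ := hb
    exact ⟨_, fun i => mul_ne_zero (hc i) (hc' i), B.hprod_mul hD hR3 c c' hc hc' _ (le_refl _)⟩
  | inv a _ ha =>
    obtain ⟨c, hc, rfl⟩ := ha
    refine ⟨fun i => (c i)⁻¹, fun i => inv_ne_zero (hc i), ?_⟩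
    rw [inv_eq_iff_eq_inv, eq_comm, inv_eq_iff_mul_eq_one,
      B.hprod_mul hD hR3 _ c (fun i => inv_ne_zero (hc i)) hc _ (le_refl _)]
    have : (fun i => (c i)⁻¹ * c i) = fun _ => (1 : K) := by
      funext i
      exact inv_mul_cancel₀ (hc i)
    rw [this, B.hprod_one hD _ (le_refl _)]

omit hR3 in
/-- the image of a product `∏ h̄_{a_i}(c_i)` -/
theorem BiModel.π_hprod (c : ℕ → K) (hc : ∀ i, c i ≠ 0) (k : ℕ) (hk : k ≤ D.rank) :
    ((B.π (B.R.hprod c k) : GL D.Idx K) : Matrix D.Idx D.Idx K)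
      = torusMat D (fun i => if i < k then c i else 1) := by
  induction k with
  | zero =>
    rw [B.R.hprod_zero, map_one, Units.val_one]
    simp only [Nat.not_lt_zero, if_false]
    exact (torusMat_one D).symm
  | succ k ih =>
    have hk' : k < D.rank := hk
    have hp := (checkUp_spec D k (chkUp_all D hD k hk')).1
    rw [B.R.hprod_succ, map_mul, Units.val_mul, ih (by omega), B.π_hbar hD _ hp.1,
      hMat_simple_eq_torusMat D hD k hk' (c k) (hc k), torusMat_mul]
    congr 1
    funext i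
    by_cases h1 : i < k
    · have h2 : i < k + 1 := by omega
      have h3 : ¬ i = k := by omega
      rw [if_pos h1, if_pos h2, if_neg h3, mul_one]
    · by_cases h3 : i = k
      · have h2 : i < k + 1 := by omega
        rw [if_neg h1, if_pos h2, if_pos h3, one_mul, h3]
      · have h2 : ¬ i < k + 1 := by omega
        rw [if_neg h1, if_neg h2, if_neg h3, one_mul]

/-- when `(Kˣ)^l → H` is injective, `π` is injective on `H̄` -/
theorem BiModel.hSub_inf_ker (hinj : ∀ c : Fin D.rank → Kˣ, torHom D K c = 1 → c = 1) (h : Γ)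
    (hh : h ∈ B.R.hSub) (hπ : B.π h = 1) : h = 1 := by
  obtain ⟨c, hc, rfl⟩ := B.exists_hprod hD hR3 h hh
  have h1 := B.π_hprod hD c hc D.rank (le_refl _)
  rw [hπ, Units.val_one] at h1
  set cu : Fin D.rank → Kˣ := fun i => Units.mk0 (c i.val) (hc i.val) with hcu
  have h2 : torHom D K cu = 1 := by
    apply Units.ext
    rw [torHom_val, Units.val_one, h1]
    congr 1
  have h3 := hinj cu h2
  have h4 : ∀ i < D.rank, c i = 1 := by
    intro i hi
    have := congrFun h3 ⟨i, hi⟩
    rw [hcu] at this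
    have h5 := congrArg Units.val this
    simpa using h5
  rw [B.R.hprod_congr c (fun _ => 1) D.rank h4, B.hprod_one hD _ (le_refl _)]

end R3

/-- `(Kˣ)^l → H` is injective for the types `G₂`, `F₄`, `E₈` -/
theorem torHom_injective_of_unimodular (D : ChevalleyDatum) (hD : D ∈ [chevG2, chevF4, chevE8])
    (c : Fin D.rank → Kˣ) (h : torHom D K c = 1) : c = 1 := by
  have hD7 : D ∈ Seven := by
    simp only [List.mem_cons, List.not_mem_nil, or_false] at hD
    rcases hD with rfl | rfl | rfl <;> simp [Seven]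
  have hk : c ∈ (mpow (fmat (cartanFn D) D.rank) :
      (Fin D.rank → Kˣ) →* (Fin D.rank → Kˣ)).ker :=
    (mem_ker_torHom_iff D hD7 c).1 (MonoidHom.mem_ker.2 h)
  have key : c ^ 1 = 1 := by
    simp only [List.mem_cons, List.not_mem_nil, or_false] at hD
    rcases hD with rfl | rfl | rfl
    · exact ker_mpow_pow_eq_one chevG2.rank (cartanFn chevG2) smPG2 smP'G2 smQG2 smQ'G2 [1, 1]
        (by decide +kernel) (by decide +kernel) (by decide +kernel) 1
        (by intro j hj; have : j < 2 := hj; interval_cases j <;> decide) c hk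
    · exact ker_mpow_pow_eq_one chevF4.rank (cartanFn chevF4) smPF4 smP'F4 smQF4 smQ'F4
        [1, 1, 1, 1]
        (by decide +kernel) (by decide +kernel) (by decide +kernel) 1
        (by intro j hj; have : j < 4 := hj; interval_cases j <;> decide) c hk
    · exact ker_mpow_pow_eq_one chevE8.rank (cartanFn chevE8) smPE8 smP'E8 smQE8 smQ'E8
        [1, 1, 1, 1, 1, 1, 1, 1]
        (by decide +kernel) (by decide +kernel) (by decide +kernel) 1
        (by intro j hj; have : j < 8 := hj; interval_cases j <;> decide) c hk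
  rwa [pow_one] at key

/-- Steinberg's group of type `G₂`, `F₄`, `E₈` has trivial centre -/
theorem st_center_eq_bot (D : ChevalleyDatum) (hD : D ∈ [chevG2, chevF4, chevE8])
    (K : Type*) [Field K] : Subgroup.center (D.SteinbergGroup K) = ⊥ := by
  have hD7 : D ∈ Seven := by
    simp only [List.mem_cons, List.not_mem_nil, or_false] at hD
    rcases hD with rfl | rfl | rfl <;> simp [Seven]
  obtain ⟨θ, -, hker, hθ⟩ := st_main D hD7 K
  rw [eq_bot_iff, ← hker]
  intro z hz
  rw [Subgroup.mem_bot]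
  have hz' := ker_le_stBiModel D hD7 θ hθ hz
  exact (stBiModel D hD7 θ hθ).hSub_inf_ker hD7
    (fun i t₁ t₂ hi h1 h2 => stGens_hbar_mul D K _ t₁ t₂
      (checkUp_spec D i (chkUp_all D hD7 i hi)).1.1 h1 h2)
    (torHom_injective_of_unimodular D hD) z
    ((stBiModel D hD7 θ hθ).ker_le_hSub hD7 hz') (MonoidHom.mem_ker.1 hz')

end Cfsg.Agent.Lib.Helper5.StPres
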