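import Mathlib
import Cfsg.Agent.Lib.Helper5.StPres.Basic
import Cfsg.Agent.Lib.Helper5.ChevChk.PerfAll

set_option autoImplicit false

/-!
A group with Steinberg generators satisfying (R1), (R2) is perfect (for the seven types; for
`B₂`, `G₂` over fields with more than two elements).
-/

namespace Cfsg.Agent.Lib.Helper5.StPres

open Cfsg Cfsg.Lie Cfsg.Agent.Lib.Helper5.ChevSym

variable {D : ChevalleyDatum} {K : Type*} [Field K] {Γ : Type*} [Group Γ] (R : RootGens D K Γ)

/-- the root elements of the root `k` lie in the commutator subgroup -/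
def RootGens.GoodRoot (k : ℕ) : Prop := ∀ v : K, R.X k v ∈ commutator Γ

theorem mem_commutator_iff (g : Γ) : g ∈ commutator Γ ↔ Abelianization.of g = 1 := by
  rw [← Abelianization.ker_of, MonoidHom.mem_ker]

theorem intCast_ne_zero_of_natAbs_one (c : ℤ) (hc : c.natAbs = 1) : (c : K) ≠ 0 := by
  rcases Int.natAbs_eq c with e | e
  · rw [e, hc]; simp
  · rw [e, hc]; simp

/-- the image of (R2) in the abelianization -/
theorem RootGens.ab_word (r s : ℕ) (t u : K) (hr : r < D.nroots) (hs : s < D.nroots) (hsr : s ≠ r)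
    (hsn : s ≠ D.neg r) :
    ((D.commWord K r s t u).map fun p => Abelianization.of (R.X p.1 p.2)).prod = 1 := by
  have h := congrArg Abelianization.of (R.X_comm r s t u hr hs hsr hsn)
  rw [map_list_prod, List.map_map] at h
  rw [show ((D.commWord K r s t u).map fun p => Abelianization.of (R.X p.1 p.2))
    = (D.commWord K r s t u).map (Abelianization.of ∘ fun p => R.X p.1 p.2) from rfl, ← h]
  simp only [map_mul, map_inv]
  rw [mul_comm ((Abelianization.of (R.X s u))⁻¹ * (Abelianization.of (R.X r t))⁻¹)]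
  group

theorem RootGens.good_of_single (k r s : ℕ) (c : ℤ) (hr : r < D.nroots) (hs : s < D.nroots)
    (hsr : s ≠ r) (hsn : s ≠ D.neg r) (hterms : D.commTerms r s = [(k, c, 1, 1)])
    (hc : (c : K) ≠ 0) : R.GoodRoot k := by
  intro v
  rw [mem_commutator_iff]
  have h := R.ab_word r s (-((c : K)⁻¹ * v)) 1 hr hs hsr hsn
  unfold ChevalleyDatum.commWord at h
  rw [hterms] at h
  simp only [List.map_cons, List.map_nil, List.prod_cons, List.prod_nil, mul_one, neg_neg,
    pow_one] at h
  rwa [← mul_assoc, mul_inv_cancel₀ hc, one_mul] at h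

theorem RootGens.good_of_pair (k1 k2 r s : ℕ) (c1 c2 : ℤ) (rest : List (ℕ × ℤ × ℕ × ℕ))
    (hr : r < D.nroots) (hs : s < D.nroots) (hsr : s ≠ r) (hsn : s ≠ D.neg r)
    (hk1 : k1 < D.nroots) (hk2 : k2 < D.nroots)
    (hterms : D.commTerms r s = (k1, c1, 1, 1) :: (k2, c2, 1, 2) :: rest)
    (hrest : ∀ e ∈ rest, R.GoodRoot e.1) (hc1 : (c1 : K) ≠ 0) (hc2 : (c2 : K) ≠ 0)
    (a : K) (ha0 : a ≠ 0) (ha1 : a ≠ 1) : R.GoodRoot k1 ∧ R.GoodRoot k2 := by
  have E : ∀ t u : K, Abelianization.of (R.X k1 ((c1 : K) * (-t) * u))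
      * Abelianization.of (R.X k2 ((c2 : K) * (-t) * u ^ 2)) = 1 := by
    intro t u
    have h := R.ab_word r s t u hr hs hsr hsn
    unfold ChevalleyDatum.commWord at h
    rw [hterms] at h
    simp only [List.map_cons, List.prod_cons, pow_one] at h
    have hz : ((rest.map fun c => (c.1, (c.2.1 : K) * (-t) ^ c.2.2.1 * u ^ c.2.2.2)).map
        fun p => Abelianization.of (R.X p.1 p.2)).prod = 1 := by
      apply List.prod_eq_one
      intro x hx
      rw [List.mem_map] at hx
      obtain ⟨p, hp, rfl⟩ := hx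
      rw [List.mem_map] at hp
      obtain ⟨e, he, rfl⟩ := hp
      exact (mem_commutator_iff _).1 (hrest e he _)
    rw [hz, mul_one] at h
    exact h
  have hB : ∀ v : K, Abelianization.of (R.X k2 v) = 1 := by
    intro v
    have h1a : (1 : K) - a ≠ 0 := sub_ne_zero.2 (Ne.symm ha1)
    set t : K := -(v / ((c2 : K) * (1 - a))) with ht
    have e1 := E t 1
    have e2 := E (t / a) a
    have e3 : (c1 : K) * (-(t / a)) * a = (c1 : K) * (-t) * 1 := by
      field_simp
    rw [e3] at e2
    have e4 : Abelianization.of (R.X k2 ((c2 : K) * (-t) * 1 ^ 2))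
        = Abelianization.of (R.X k2 ((c2 : K) * (-(t / a)) * a ^ 2)) := by
      have := e1.trans e2.symm
      exact mul_left_cancel this
    have e5 : v = (c2 : K) * (-t) * 1 ^ 2 - (c2 : K) * (-(t / a)) * a ^ 2 := by
      rw [ht]
      field_simp
    rw [e5, R.X_sub k2 hk2, map_mul, map_inv, e4, mul_inv_cancel]
  refine ⟨fun v => ?_, fun v => (mem_commutator_iff _).2 (hB v)⟩
  rw [mem_commutator_iff]
  have e1 := E (-((c1 : K)⁻¹ * v)) 1
  rw [hB, mul_one, neg_neg, mul_one, ← mul_assoc, mul_inv_cancel₀ hc1, one_mul] at e1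
  exact e1

/-- a group all of whose root elements are commutators is perfect -/
theorem RootGens.perfect_of_good (h : ∀ k < D.nroots, R.GoodRoot k) : commutator Γ = ⊤ := by
  rw [eq_top_iff, ← R.gen, Subgroup.closure_le]
  rintro g ⟨r, t, hr, rfl⟩
  exact h r hr t

theorem perfect_of_checkPerf (R : RootGens D K Γ) (tab : List (ℕ × ℕ))
    (h : checkPerf D tab = true) : commutator Γ = ⊤ := by
  apply R.perfect_of_good
  intro k hk
  obtain ⟨r, s, hw⟩ := checkPerf_spec D tab h k hk
  obtain ⟨hsr, hsn, hr, hs, c, hc, hterms⟩ := commWit_spec D 1 k r s hw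
  exact R.good_of_single k r s c hr hs hsr hsn hterms (intCast_ne_zero_of_natAbs_one c hc)

theorem perfect_B2 (R : RootGens chevB2 K Γ) (a : K) (ha0 : a ≠ 0) (ha1 : a ≠ 1) :
    commutator Γ = ⊤ := by
  have h1 : (((1 : ℤ) : K)) ≠ 0 := by simp
  have h2 : (((-1 : ℤ) : K)) ≠ 0 := by simp
  have p1 := R.good_of_pair 1 3 0 5 1 (-1) [] (by decide) (by decide) (by decide) (by decide)
    (by decide) (by decide) (by decide) (by simp) h1 h2 a ha0 ha1
  have p2 := R.good_of_pair 2 4 0 6 (-1) 1 [] (by decide) (by decide) (by decide) (by decide)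
    (by decide) (by decide) (by decide) (by simp) h2 h1 a ha0 ha1
  have p3 := R.good_of_pair 1 0 3 2 (-1) (-1) [] (by decide) (by decide) (by decide) (by decide)
    (by decide) (by decide) (by decide) (by simp) h2 h2 a ha0 ha1
  have p4 := R.good_of_pair 5 7 3 6 1 1 [] (by decide) (by decide) (by decide) (by decide)
    (by decide) (by decide) (by decide) (by simp) h1 h1 a ha0 ha1
  have p5 := R.good_of_pair 6 7 4 5 1 (-1) [] (by decide) (by decide) (by decide) (by decide)
    (by decide) (by decide) (by decide) (by simp) h1 h2 a ha0 ha1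
  apply R.perfect_of_good
  intro k hk
  have hk' : k < 8 := hk
  interval_cases k
  · exact p3.2
  · exact p1.1
  · exact p2.1
  · exact p1.2
  · exact p2.2
  · exact p4.1
  · exact p5.1
  · exact p4.2

theorem perfect_G2 (R : RootGens chevG2 K Γ) (a : K) (ha0 : a ≠ 0) (ha1 : a ≠ 1) :
    commutator Γ = ⊤ := by
  have h1 : (((1 : ℤ) : K)) ≠ 0 := by simp
  have h2 : (((-1 : ℤ) : K)) ≠ 0 := by simp
  have g1 : R.GoodRoot 1 := R.good_of_single 1 0 6 1 (by decide) (by decide) (by decide)
    (by decide) (by decide) h1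
  have g0 : R.GoodRoot 0 := R.good_of_single 0 1 5 1 (by decide) (by decide) (by decide)
    (by decide) (by decide) h1
  have g5 : R.GoodRoot 5 := R.good_of_single 5 0 10 (-1) (by decide) (by decide) (by decide)
    (by decide) (by decide) h2
  have g6 : R.GoodRoot 6 := R.good_of_single 6 1 11 (-1) (by decide) (by decide) (by decide)
    (by decide) (by decide) h2
  have g10 : R.GoodRoot 10 := R.good_of_single 10 5 11 1 (by decide) (by decide) (by decide)
    (by decide) (by decide) h1
  have g11 : R.GoodRoot 11 := R.good_of_single 11 6 10 1 (by decide) (by decide) (by decide)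
    (by decide) (by decide) h1
  have p1 := R.good_of_pair 2 4 0 8 1 1 [(6, -1, 1, 3), (1, -2, 2, 3)] (by decide) (by decide)
    (by decide) (by decide) (by decide) (by decide) (by decide)
    (by
      intro e he
      simp only [List.mem_cons, List.not_mem_nil, or_false] at he
      rcases he with rfl | rfl
      · exact g6
      · exact g1) h1 h1 a ha0 ha1
  have p2 := R.good_of_pair 3 7 0 9 (-1) (-1) [(10, -1, 1, 3), (5, 2, 2, 3)] (by decide) (by decide)
    (by decide) (by decide) (by decide) (by decide) (by decide)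
    (by
      intro e he
      simp only [List.mem_cons, List.not_mem_nil, or_false] at he
      rcases he with rfl | rfl
      · exact g10
      · exact g5) h2 h2 a ha0 ha1
  have p3 := R.good_of_pair 8 9 6 7 1 1 [(10, -1, 1, 3), (11, -2, 2, 3)] (by decide) (by decide)
    (by decide) (by decide) (by decide) (by decide) (by decide)
    (by
      intro e he
      simp only [List.mem_cons, List.not_mem_nil, or_false] at he
      rcases he with rfl | rfl
      · exact g10
      · exact g11) h1 h1 a ha0 ha1
  apply R.perfect_of_good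
  intro k hk
  have hk' : k < 12 := hk
  interval_cases k
  · exact g0
  · exact g1
  · exact p1.1
  · exact p2.1
  · exact p1.2
  · exact g5
  · exact g6
  · exact p2.2
  · exact p3.1
  · exact p3.2
  · exact g10
  · exact g11

end Cfsg.Agent.Lib.Helper5.StPres
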